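import Cfsg.Agent.ScnThree.Basic

/-!
The rotation induced on an invariant normal abelian subgroup and the commutator maps of the group on it.
-/

set_option autoImplicit false
set_option linter.style.haveILetI false

namespace CfsgLib.ScnThree

open Subgroup Cfsg
open scoped IsMulCommutative

variable {X : Type*} [Group X] [Finite X] {A : Subgroup (MulAut X)} {M : Subgroup X} {φ : MulAut X}

theorem AbN.isComm (hM : AbN A M) : IsMulCommutative M :=
  ⟨⟨fun a b => Subtype.ext (hM.comm a a.2 b b.2)⟩⟩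

namespace RotX

variable (hM : AbN A M) (R : RotX A M φ)

/-- The restriction of the rotation. -/
def tau [IsMulCommutative M] : M ≃* M where
  toFun m := ⟨φ m.1, hM.inv φ R.mem _ m.2⟩
  invFun m := ⟨φ (φ m.1), hM.inv φ R.mem _ (hM.inv φ R.mem _ m.2)⟩
  left_inv m := Subtype.ext (R.cube m.1 m.2)
  right_inv m := Subtype.ext (R.cube m.1 m.2)
  map_mul' a b := Subtype.ext (map_mul φ a.1 b.1)

@[simp] theorem tau_coe [IsMulCommutative M] (m : M) : ((R.tau hM) m : X) = φ (m : X) := rfl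

theorem rot3 [IsMulCommutative M] (h : Hyp A) : Rot3 (R.tau hM) where
  two := h.two.to_subgroup M
  cube m := Subtype.ext (R.cube m.1 m.2)
  fixed m hm := Subtype.ext (R.fixed m.1 m.2 (congrArg Subtype.val hm))
  om4 e he he1 y hy := by
    have memO : ∀ z : M, z ^ 2 = 1 → (z : X) ∈ Om M := fun z hz =>
      hM.mem_om.2 ⟨z.2, by rw [← Subgroup.coe_pow, hz, Subgroup.coe_one]⟩
    rcases R.om4 _ (memO e he) (fun e' => he1 (Subtype.ext e')) _ (memO y hy) with h' | h' | h' | h'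
    · exact Or.inl (Subtype.ext h')
    · exact Or.inr (Or.inl (Subtype.ext h'))
    · exact Or.inr (Or.inr (Or.inl (Subtype.ext h')))
    · exact Or.inr (Or.inr (Or.inr (Subtype.ext h')))

include hM R in
theorem exists_expo [IsMulCommutative M] (h : Hyp A) : ∃ n, Expo M n := by
  haveI : Nontrivial M := by
    refine M.nontrivial_iff_ne_bot.2 fun hb => ?_
    have : Nat.card (Om M) ≤ 1 := by
      rw [← (Subgroup.card_bot (G := X))]
      exact Subgroup.card_le_of_le fun x hx => hb ▸ (hM.mem_om.1 hx).1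
    have := R.card_om
    omega
  exact CfsgLib.ScnThree.exists_expo (h.two.to_subgroup M)

include hM R in
/-- A larger invariant subgroup with squares in `M` and central commutators is commutative. -/
theorem comm_of_sq [IsMulCommutative M] (h : Hyp A) {n : ℕ} (hn : Expo M n) (h1 : 1 ≤ n)
    (U : Subgroup X) (hinv : ∀ u ∈ U, φ u ∈ U) (hcent : ∀ u ∈ U, ∀ m ∈ M, u * m = m * u)
    (hsq : ∀ u ∈ U, u ^ 2 ∈ M) (hcomm : ∀ u ∈ U, ∀ v ∈ U, u * v * u⁻¹ * v⁻¹ ∈ Om M)
    (hker : ∀ u ∈ U, ∀ q ∈ M, q ^ 2 = u ^ 2 → u ∈ M) : ∀ u ∈ U, ∀ v ∈ U, u * v = v * u := by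
  have R3 := R.rot3 hM h
  set N := 2 ^ n with hN
  have hNe : 2 ∣ N := dvd_pow_self 2 (by omega)
  have hP : ∀ u ∈ U, (u ^ 2) ^ N ∈ Om M := fun u hu => hM.mem_om.2 ⟨M.pow_mem (hsq u hu) _, by
    rw [← pow_mul, hN, ← pow_succ]
    exact congrArg Subtype.val (hn.1 ⟨u ^ 2, hsq u hu⟩)⟩
  have hmul : ∀ u ∈ U, ∀ v ∈ U, ((u * v) ^ 2) ^ N = (u ^ 2) ^ N * (v ^ 2) ^ N := by
    intro u hu v hv
    set c := v * u * v⁻¹ * u⁻¹ with hc
    have hcm : c ∈ Om M := hcomm v hv u hu
    have hcM := (hM.mem_om.1 hcm).1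
    have hu2 := hsq u hu
    have hv2 := hsq v hv
    have e : (u * v) ^ 2 = c * (u ^ 2 * v ^ 2) := by
      rw [pow_two, show u * v * (u * v) = u * (v * u * v⁻¹ * u⁻¹) * u * v * v by group, ← hc,
        hcent u hu c hcM]
      simp only [pow_two, mul_assoc]
    rw [e, Commute.mul_pow (hM.comm c hcM _ (M.mul_mem hu2 hv2)),
      Commute.mul_pow (hM.comm _ hu2 _ hv2)]
    obtain ⟨k, hk⟩ := hNe
    rw [show c ^ N = 1 by rw [hk, pow_mul, (hM.mem_om.1 hcm).2, one_pow], one_mul]
  have hP1 : ∀ u ∈ U, (u ^ 2) ^ N = 1 → u ∈ M := by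
    intro u hu he
    obtain ⟨q, hq⟩ := R3.mem_sq hn ⟨u ^ 2, hsq u hu⟩ (Subtype.ext he)
    exact hker u hu q.1 q.2 (congrArg Subtype.val hq)
  have hcls : ∀ u ∈ U, ∀ v ∈ U, (u ^ 2) ^ N = (v ^ 2) ^ N → u * v⁻¹ ∈ M := fun u hu v hv e => by
    refine hP1 _ (U.mul_mem hu (U.inv_mem hv)) (mul_right_cancel (b := (v ^ 2) ^ N) ?_)
    rw [one_mul, ← hmul _ (U.mul_mem hu (U.inv_mem hv)) v hv, inv_mul_cancel_right]
    exact e
  intro x hx y hy
  by_cases hall : ∀ u ∈ U, u ∈ M
  · exact hM.comm x (hall x hx) y (hall y hy)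
  push Not at hall
  obtain ⟨u, hu, huM⟩ := hall
  set e := (u ^ 2) ^ N with he
  have he1 : e ≠ 1 := fun e' => huM (hP1 u hu e')
  have hfu := hinv u hu
  have hffu := hinv _ hfu
  have hfe : ∀ w, φ ((w ^ 2) ^ N) = (φ w ^ 2) ^ N := fun w => by rw [map_pow, map_pow]
  have hrot : e * φ e * φ (φ e) = 1 :=
    congrArg Subtype.val (R3.rot ⟨e, (hM.mem_om.1 (hP u hu)).1⟩)
  have e2 : φ (φ e) = e * φ e := by
    have h2 := (hM.mem_om.1 (hP u hu)).2
    have hfO := hM.om_abn.inv φ R.mem _ (hP u hu)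
    have h3 := (hM.mem_om.1 (hM.om_abn.inv φ R.mem _ hfO)).2
    rw [← mul_one (φ (φ e)), ← hrot, ← hM.comm (φ (φ e))]
    · rw [← mul_assoc, ← pow_two, h3, one_mul]
    · exact (hM.mem_om.1 (hM.om_abn.inv φ R.mem _ hfO)).1
    · exact M.mul_mem (hM.mem_om.1 (hP u hu)).1 (hM.mem_om.1 hfO).1
  set c := u * φ u * u⁻¹ * (φ u)⁻¹ with hc
  obtain ⟨m, hm, hmeq⟩ : ∃ m ∈ M, φ (φ u) = m * (u * φ u) := by
    refine ⟨_, hcls _ hffu _ (U.mul_mem hu hfu) ?_, (inv_mul_cancel_right _ _).symm⟩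
    rw [hmul u hu _ hfu, ← hfe, ← hfe]
    exact e2
  have hcM := hcomm u hu _ hfu
  have hc1 : c = 1 := by
    refine R.fixed c (hM.mem_om.1 hcM).1 ?_
    have h1 : φ c = φ u * φ (φ u) * (φ u)⁻¹ * (φ (φ u))⁻¹ := by simp [hc, map_mul, map_inv]
    have h2 : φ u * m = m * φ u := hcent _ hfu m hm
    have h3 : φ c = m * c⁻¹ * m⁻¹ := by
      rw [h1, hmeq, show φ u * (m * (u * φ u)) = m * φ u * (u * φ u) by rw [← mul_assoc, h2], hc]
      group
    have h4 := hM.comm m hm _ (M.inv_mem (hM.mem_om.1 hcM).1)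
    rw [h3, h4, mul_inv_cancel_right, inv_eq_iff_mul_eq_one, ← pow_two, (hM.mem_om.1 hcM).2]
  have cuf : Commute u (φ u) := by
    rw [hc, mul_inv_eq_one, mul_inv_eq_iff_eq_mul] at hc1
    exact hc1
  have cm : ∀ w ∈ U, ∀ q ∈ M, Commute w q := fun w hw q hq => hcent w hw q hq
  have hrep : ∀ w ∈ U, ∃ q ∈ M, w = q ∨ w = q * u ∨ w = q * φ u ∨ w = q * φ (φ u) := by
    intro w hw
    rcases R.om4 e (hP u hu) he1 _ (hP w hw) with h' | h' | h' | h'
    · exact ⟨w, hP1 w hw h', Or.inl rfl⟩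
    · exact ⟨_, hcls w hw u hu h', Or.inr (Or.inl (inv_mul_cancel_right _ _).symm)⟩
    · rw [hfe] at h'
      exact ⟨_, hcls w hw _ hfu h', Or.inr (Or.inr (Or.inl (inv_mul_cancel_right _ _).symm))⟩
    · rw [hfe, hfe] at h'
      exact ⟨_, hcls w hw _ hffu h', Or.inr (Or.inr (Or.inr (inv_mul_cancel_right _ _).symm))⟩
  have cuff : Commute u (φ (φ u)) := by
    rw [hmeq]; exact (cm u hu m hm).mul_right ((Commute.refl u).mul_right cuf)
  have cff : Commute (φ u) (φ (φ u)) := cuf.map φ.toMonoidHom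
  have hgen : ∀ g, (∀ q ∈ M, Commute g q) → Commute g u → Commute g (φ u) → ∀ w ∈ U, Commute g w := by
    intro g g1 g2 g3 w hw
    have g4 : Commute g (φ (φ u)) := by
      rw [hmeq]; exact (g1 m hm).mul_right (g2.mul_right g3)
    obtain ⟨q, hq, rfl | rfl | rfl | rfl⟩ := hrep w hw
    · exact g1 _ hq
    · exact (g1 q hq).mul_right g2
    · exact (g1 q hq).mul_right g3
    · exact (g1 q hq).mul_right g4
  have h5 : ∀ w ∈ U, Commute u w := hgen u (cm u hu) (Commute.refl u) cuf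
  have h6 : ∀ w ∈ U, Commute (φ u) w := hgen _ (cm _ hfu) cuf.symm (Commute.refl _)
  exact hgen x (cm x hx) (h5 x hx).symm (h6 x hx).symm y hy

end RotX

section Dmap

variable [M.Normal] [IsMulCommutative M]

/-- The commutator map of `x` on `M`. -/
def D (x : X) : M →* M where
  toFun p := MulAut.conjNormal x p / p
  map_one' := by simp
  map_mul' a b := by rw [map_mul, mul_div_mul_comm]

theorem D_coe (x : X) (p : M) : ((D x p : M) : X) = x * p * x⁻¹ * (p : X)⁻¹ := by
  simp [D, MulAut.conjNormal_apply, div_eq_mul_inv]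

theorem conj_eq (x : X) (p : M) : x * p * x⁻¹ = ((D x p * p : M) : X) := by
  rw [Subgroup.coe_mul, D_coe, inv_mul_cancel_right]

theorem D_comp (x y : X) (p : M) : D (x * y) p = D x p * D y p * D x (D y p) := by
  have h1 : MulAut.conjNormal (H := M) (x * y) p = D x (D y p * p) * (D y p * p) := by
    apply Subtype.ext
    rw [← conj_eq, ← conj_eq, MulAut.conjNormal_apply]
    group
  show MulAut.conjNormal (H := M) (x * y) p / p = _
  rw [h1, map_mul, ← mul_assoc, mul_div_assoc, div_self', mul_one,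
    mul_comm (D x (D y p)) (D x p), mul_assoc, mul_assoc, mul_comm (D y p)]

theorem D_eq_one_iff {x : X} {p : M} : D x p = 1 ↔ x * (p : X) = (p : X) * x := by
  rw [← Subtype.coe_inj, D_coe, Subgroup.coe_one, mul_inv_eq_one, mul_inv_eq_iff_eq_mul]

theorem D_mem {x : X} (hx : x ∈ M) (p : M) : D x p = 1 :=
  D_eq_one_iff.2 (congrArg Subtype.val (mul_comm (⟨x, hx⟩ : M) p))

variable (hM : AbN A M) (R : RotX A M φ)

theorem RotX.D_phi (x : X) (p : M) :
    D (φ x) p = R.tau hM (D x (R.tau hM (R.tau hM p))) := by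
  apply Subtype.ext
  rw [RotX.tau_coe, D_coe, D_coe, RotX.tau_coe, RotX.tau_coe]
  simp only [map_mul, map_inv, R.cube p.1 p.2]

include hM R in
/-- The averaging relation. -/
theorem RotX.T_mem (h : Hyp A) (N : Subgroup M) (hτ : ∀ q ∈ N, R.tau hM q ∈ N)
    (hDD : ∀ x y : X, ∀ p : M, D x (D y p) ∈ N) (x : X) (p : M) :
    D x p * R.tau hM (D x (R.tau hM (R.tau hM p))) *
      R.tau hM (R.tau hM (D x (R.tau hM p))) ∈ N := by
  set τ := R.tau hM with hτd
  have hc : ∀ q, τ (τ (τ q)) = q := (R.rot3 hM h).cube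
  let T : X → M → M := fun y q => D y q * τ (D y (τ (τ q))) * τ (τ (D y (τ q)))
  let f : X →* (M → M ⧸ N) :=
    { toFun := fun y q => QuotientGroup.mk' N (T y q)
      map_one' := funext fun q => by
        have h1 : ∀ r : M, D (1 : X) r = 1 := fun r => D_mem M.one_mem r
        simp [T, h1]
      map_mul' := fun y z => funext fun q => by
        show QuotientGroup.mk' N (T (y * z) q) = QuotientGroup.mk' N (T y q) * QuotientGroup.mk' N (T z q)
        rw [← map_mul]
        refine (QuotientGroup.eq).2 ?_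
        have hrw : T (y * z) q = (T y q * T z q) *
            (D y (D z q) * τ (D y (D z (τ (τ q)))) * τ (τ (D y (D z (τ q))))) := by
          simp only [T, D_comp, map_mul]
          simp only [mul_comm, mul_left_comm, mul_assoc]
        rw [hrw, mul_inv_rev, mul_assoc, inv_mul_cancel, mul_one]
        exact N.inv_mem (N.mul_mem (N.mul_mem (hDD _ _ _) (hτ _ (hDD _ _ _))) (hτ _ (hτ _ (hDD _ _ _)))) }
  have hinv : ∀ a ∈ A, ∀ y, f (a y) = f y := fun a ha y => funext fun q => by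
    show QuotientGroup.mk' N (T (a y) q) = QuotientGroup.mk' N (T y q)
    refine congrArg _ ?_
    rcases R.pow a ha with hp | hp | hp
    · have e : ∀ r : M, D (a y) r = D y r := fun r => Subtype.ext (by
        have hr : a (r : X) = r := hp _ r.2
        rw [D_coe]; conv_lhs => rw [← hr, ← map_inv, ← map_inv, ← map_mul, ← map_mul, ← map_mul]
        rw [← D_coe]; exact hp _ (D y r).2)
      simp only [T, e]
    · have e : ∀ r : M, D (a y) r = τ (D y (τ (τ r))) := fun r => by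
        have hr : a ((τ (τ r) : M) : X) = r := by
          rw [hp _ (τ (τ r)).2]; exact congrArg Subtype.val (hc r)
        apply Subtype.ext
        rw [hτd, RotX.tau_coe, ← hp _ (D y _).2, D_coe, D_coe, ← hτd]
        simp only [map_mul, map_inv, hr]
      simp only [T, e, hc]
      simp only [mul_comm, mul_left_comm]
    · have e : ∀ r : M, D (a y) r = τ (τ (D y (τ r))) := fun r => by
        have hr : a ((τ r : M) : X) = r := by
          rw [hp _ (τ r).2]; exact congrArg Subtype.val (hc r)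
        apply Subtype.ext
        rw [hτd, RotX.tau_coe, RotX.tau_coe, ← hp _ (D y _).2, D_coe, D_coe, ← hτd]
        simp only [map_mul, map_inv, hr]
      simp only [T, e, hc]
      simp only [mul_comm, mul_left_comm]
  exact (QuotientGroup.eq_one_iff _).1 (congrFun (h.hom_trivial f hinv x) p)

end Dmap

end CfsgLib.ScnThree
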