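import Mathlib

/-!
Finite abelian 2-groups with a fixed-point-free rotation of order three of their four involution-kernel.
-/

set_option autoImplicit false
set_option linter.style.haveILetI false

namespace CfsgLib.ScnThree

open Subgroup

variable {M : Type*} [CommGroup M] [Finite M]

/-- An automorphism of order three without fixed points cycling the three involutions. -/
structure Rot3 (τ : M ≃* M) : Prop where
  two : IsPGroup 2 M
  cube : ∀ m : M, τ (τ (τ m)) = m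
  fixed : ∀ m : M, τ m = m → m = 1
  om4 : ∀ e : M, e ^ 2 = 1 → e ≠ 1 → ∀ y : M, y ^ 2 = 1 → y = 1 ∨ y = e ∨ y = τ e ∨ y = τ (τ e)

/-- The exponent is exactly `2 ^ (n + 1)`. -/
def Expo (M : Type*) [CommGroup M] (n : ℕ) : Prop :=
  (∀ m : M, m ^ (2 ^ (n + 1)) = 1) ∧ ∃ r : M, r ^ (2 ^ n) ≠ 1

theorem exists_expo (h : IsPGroup 2 M) [Nontrivial M] : ∃ n, Expo M n := by
  classical
  have hex : ∃ k, ∀ m : M, m ^ (2 ^ k) = 1 := by
    obtain ⟨k, hk⟩ := h.exists_card_eq
    exact ⟨k, fun m => hk ▸ pow_card_eq_one'⟩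
  obtain ⟨n, hn⟩ : ∃ n, Nat.find hex = n + 1 := by
    refine Nat.exists_eq_succ_of_ne_zero fun h0 => ?_
    have := Nat.find_spec hex
    rw [h0] at this
    obtain ⟨m, hm⟩ := exists_ne (1 : M)
    exact hm (by simpa using this m)
  refine ⟨n, fun m => hn ▸ Nat.find_spec hex m, ?_⟩
  by_contra hr
  push Not at hr
  exact Nat.find_min hex (by omega) hr

variable {τ : M ≃* M} (R : Rot3 τ)
include R

namespace Rot3

theorem rot (m : M) : m * τ m * τ (τ m) = 1 := by
  refine R.fixed _ ?_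
  rw [map_mul, map_mul, R.cube, mul_comm (τ m * τ (τ m)) m, mul_assoc]

theorem tt (m : M) : τ (τ m) = (m * τ m)⁻¹ := eq_inv_of_mul_eq_one_right (R.rot m)

/-- A nontrivial invariant subgroup contains all elements killed by two. -/
theorem om_le (N : Subgroup M) (hN : N ≠ ⊥) (hτ : ∀ x ∈ N, τ x ∈ N) (y : M) (hy : y ^ 2 = 1) :
    y ∈ N := by
  haveI : Fact (Nat.Prime 2) := ⟨Nat.prime_two⟩
  haveI := (N.nontrivial_iff_ne_bot).2 hN
  obtain ⟨k, hk⟩ := (R.two.to_subgroup N).exists_card_eq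
  have hd : 2 ∣ Nat.card N := by
    rw [hk]
    refine dvd_pow_self 2 fun h0 => ?_
    rw [h0, pow_zero] at hk
    exact (Finite.one_lt_card (α := N)).ne' hk
  obtain ⟨e, he⟩ := exists_prime_orderOf_dvd_card' 2 hd
  have he2 : (e : M) ^ 2 = 1 := by
    rw [← Subgroup.coe_pow, ← he, pow_orderOf_eq_one, Subgroup.coe_one]
  have he1 : (e : M) ≠ 1 := fun h1 => by
    have : e = 1 := Subtype.ext h1
    simp [this] at he
  rcases R.om4 _ he2 he1 y hy with h | h | h | h <;> rw [h]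
  · exact N.one_mem
  · exact e.2
  · exact hτ _ e.2
  · exact hτ _ (hτ _ e.2)

variable {n : ℕ} (hn : Expo M n)
include hn

theorem range_top : (powMonoidHom (2 ^ n) : M →* M).range = (powMonoidHom 2 : M →* M).ker := by
  refine le_antisymm ?_ fun y hy => ?_
  · rintro _ ⟨m, rfl⟩
    rw [MonoidHom.mem_ker, powMonoidHom_apply, powMonoidHom_apply, ← pow_mul, ← pow_succ]
    exact hn.1 m
  · refine R.om_le _ ?_ ?_ y hy
    · obtain ⟨r, hr⟩ := hn.2
      intro h
      have hm : r ^ (2 ^ n) ∈ (powMonoidHom (2 ^ n) : M →* M).range := ⟨r, rfl⟩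
      rw [h] at hm
      exact hr (Subgroup.mem_bot.1 hm)
    · rintro _ ⟨m, rfl⟩
      exact ⟨τ m, by simp [map_pow]⟩

theorem exists_root_top (y : M) (hy : y ^ 2 = 1) : ∃ m : M, m ^ (2 ^ n) = y := by
  have h : y ∈ (powMonoidHom 2 : M →* M).ker := hy
  rw [← range_top R hn] at h
  obtain ⟨m, hm⟩ := h
  exact ⟨m, hm⟩

theorem mem_sq (m : M) (hm : m ^ (2 ^ n) = 1) : ∃ q : M, q ^ 2 = m := by
  set π := (powMonoidHom (2 ^ n) : M →* M)
  set σ := (powMonoidHom 2 : M →* M)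
  have hle : σ.range ≤ π.ker := by
    rintro _ ⟨q, rfl⟩
    rw [MonoidHom.mem_ker]
    show (q ^ 2) ^ (2 ^ n) = 1
    rw [← pow_mul, ← pow_succ']
    exact hn.1 q
  have hcard : Nat.card π.ker ≤ Nat.card σ.range := by
    have h1 := π.ker.card_mul_index
    have h2 := σ.ker.card_mul_index
    rw [Subgroup.index_ker] at h1 h2
    rw [show Nat.card π.range = Nat.card σ.ker by rw [range_top R hn]] at h1
    have hpos : 0 < Nat.card σ.ker := Nat.card_pos
    nlinarith
  obtain ⟨q, hq⟩ : m ∈ σ.range := by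
    rw [eq_of_le_of_card_ge hle hcard]; exact hm
  exact ⟨q, hq⟩

theorem classes (r : M) (hr : r ^ (2 ^ n) ≠ 1) (m : M) :
    ∃ q : M, m = q ^ 2 ∨ m = r * q ^ 2 ∨ m = τ r * q ^ 2 ∨ m = τ (τ r) * q ^ 2 := by
  have he : (r ^ (2 ^ n)) ^ 2 = 1 := by rw [← pow_mul, ← pow_succ]; exact hn.1 r
  have hy : (m ^ (2 ^ n)) ^ 2 = 1 := by rw [← pow_mul, ← pow_succ]; exact hn.1 m
  have key : ∀ s : M, m ^ (2 ^ n) = s ^ (2 ^ n) → ∃ q, m = s * q ^ 2 := fun s hs => by
    obtain ⟨q, hq⟩ := mem_sq R hn (s⁻¹ * m) (by rw [mul_pow, inv_pow, hs, inv_mul_cancel])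
    exact ⟨q, by rw [hq, mul_inv_cancel_left]⟩
  rcases R.om4 _ he hr _ hy with h | h | h | h
  · obtain ⟨q, hq⟩ := key 1 (by rw [h, one_pow])
    exact ⟨q, Or.inl (by simpa using hq)⟩
  · obtain ⟨q, hq⟩ := key r h
    exact ⟨q, Or.inr (Or.inl hq)⟩
  · obtain ⟨q, hq⟩ := key (τ r) (by rw [h, map_pow])
    exact ⟨q, Or.inr (Or.inr (Or.inl hq))⟩
  · obtain ⟨q, hq⟩ := key (τ (τ r)) (by rw [h, map_pow, map_pow])
    exact ⟨q, Or.inr (Or.inr (Or.inr hq))⟩

/-- The group is generated by an element of maximal order and its image. -/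
theorem gen (r : M) (hr : r ^ (2 ^ n) ≠ 1) (S : Subgroup M) (h1 : r ∈ S) (h2 : τ r ∈ S) : S = ⊤ := by
  have key : ∀ k : ℕ, ∀ m : M, ∃ t ∈ S, ∃ q : M, m = t * q ^ (2 ^ k) := by
    intro k
    induction k with
    | zero => exact fun m => ⟨1, S.one_mem, m, by simp⟩
    | succ k ih =>
      intro m
      obtain ⟨t, ht, q, hq⟩ := ih m
      obtain ⟨c, hc, s, hs⟩ : ∃ c ∈ S, ∃ s : M, q = c * s ^ 2 := by
        obtain ⟨s, h | h | h | h⟩ := classes R hn r hr q
        · exact ⟨1, S.one_mem, s, by rw [one_mul]; exact h⟩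
        · exact ⟨r, h1, s, h⟩
        · exact ⟨τ r, h2, s, h⟩
        · exact ⟨τ (τ r), R.tt r ▸ S.inv_mem (S.mul_mem h1 h2), s, h⟩
      refine ⟨t * c ^ (2 ^ k), S.mul_mem ht (S.pow_mem hc _), s, ?_⟩
      rw [hq, hs, mul_pow, pow_succ' 2 k, pow_mul, mul_assoc]
  refine eq_top_iff.2 fun m _ => ?_
  obtain ⟨t, ht, q, hq⟩ := key (n + 1) m
  rw [hq, hn.1 q, mul_one]
  exact ht

/-- An endomorphism whose image lies in the squares, squaring to minus twice itself and killed by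
the averaging relation, has image in the fourth powers. -/
theorem image_fourth (h2 : 2 ≤ n) (D : M →* M) (hsq : ∀ p, ∃ q : M, q ^ 2 = D p)
    (hDD : ∀ p, D (D p) * D p ^ 2 = 1)
    (hT : ∀ p, ∃ q : M, q ^ 4 = D p * τ (D (τ (τ p))) * τ (τ (D (τ p)))) :
    ∀ p, ∃ q : M, q ^ 4 = D p := by
  choose root hroot using hsq
  set S := (powMonoidHom 2 : M →* M).range with hS
  set mk : M →* M ⧸ S := QuotientGroup.mk' S
  have hmk1 : ∀ x : M, mk (x ^ 2) = 1 := fun x => (QuotientGroup.eq_one_iff _).2 ⟨x, rfl⟩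
  have hinv : ∀ v : M, (mk v)⁻¹ = mk v := fun v => by
    rw [inv_eq_iff_mul_eq_one, ← map_mul, ← pow_two, hmk1]
  have h4 : ∀ a s : M, a ^ 2 = s ^ 4 → mk a = 1 := fun a s h => by
    obtain ⟨q, hq⟩ := mem_sq R hn (a / s ^ 2) (by
      obtain ⟨k, hk⟩ := Nat.exists_eq_add_of_le (show 1 ≤ n by omega)
      rw [hk, pow_add, pow_mul, pow_one, div_pow, ← pow_mul, show 2 * 2 = 4 from rfl, h, div_self',
        one_pow])
    rw [show a = q ^ 2 * s ^ 2 by rw [hq, div_mul_cancel], map_mul, hmk1, hmk1, one_mul]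
  have hτ : ∀ a b : M, mk a = mk b → mk (τ a) = mk (τ b) := fun a b h => by
    obtain ⟨q, hq⟩ := (QuotientGroup.eq).1 h
    rw [show b = a * q ^ 2 by rw [show q ^ 2 = a⁻¹ * b from hq]; group, map_mul, map_pow, map_mul,
      hmk1, mul_one]
  set H : M → M ⧸ S := fun p => mk (root p) with hH
  have hmul : ∀ p q, H (p * q) = H p * H q := fun p q => by
    have h := h4 (root (p * q) / (root p * root q)) 1 (by
      rw [div_pow, mul_pow, hroot, hroot, hroot, map_mul, div_self', one_pow])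
    rwa [map_div, div_eq_one, map_mul] at h
  have hcls : ∀ p q, mk p = mk q → H p = H q := fun p q h => by
    obtain ⟨s, hs⟩ := (QuotientGroup.eq).1 h
    rw [show q = p * (s * s) by rw [← pow_two, show s ^ 2 = p⁻¹ * q from hs]; group, hmul, hmul,
      show H s * H s = 1 by
      show mk (root s) * mk (root s) = 1
      rw [← map_mul, ← pow_two, hmk1], mul_one]
  have hfix : ∀ p, H (root p) = mk (root p) := fun p => by
    have h1 := hDD p
    rw [← hroot p, map_pow, ← hroot (root p), ← mul_pow, ← mul_pow] at h1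
    obtain ⟨m, hm⟩ := exists_root_top R hn ((root (root p) * root p) ^ 2) h1
    obtain ⟨k, rfl⟩ := Nat.exists_eq_add_of_le h2
    rw [pow_add, mul_comm, pow_mul] at hm
    have h := h4 _ _ hm.symm
    rw [map_mul, mul_eq_one_iff_eq_inv, hinv] at h
    exact h
  intro p
  set a := root p with ha
  set u := root (τ a) with hu
  have hau : H (τ (τ a)) = mk a * mk u := by
    have h1 : H (τ (τ a)) * (H a * H (τ a)) = H 1 := by
      rw [← hmul, ← hmul, mul_comm, R.rot]
    have h0 : H 1 = 1 := by simpa using hmul 1 1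
    rw [h0, mul_eq_one_iff_eq_inv, hfix p] at h1
    rw [h1, hH]
    simp only [← ha, ← hu, mul_inv_rev, hinv, mul_comm]
  obtain ⟨s, hs⟩ := hT a
  rw [← hroot a, ← hroot (τ (τ a)), ← hroot (τ a), map_pow, map_pow, map_pow, ← mul_pow,
    ← mul_pow] at hs
  have hT1 := h4 _ _ hs.symm
  have hrw : mk (τ (root (τ (τ a)))) = mk (τ a) * mk (τ u) := by
    rw [← map_mul, ← map_mul]
    exact hτ _ _ (by rw [map_mul]; exact hau)
  rw [map_mul, map_mul, show mk (root a) = mk a from hfix p, hrw, ← hu] at hT1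
  have e1 : mk a * mk (τ a) = mk (τ (τ a)) := by
    rw [← map_mul, ← hinv, ← map_inv, R.tt]
  have e2 : mk (τ u) * mk (τ (τ u)) = mk u := by
    rw [← hinv u, eq_inv_iff_mul_eq_one, mul_comm, ← map_mul, ← map_mul, ← mul_assoc, R.rot, map_one]
  rw [← mul_assoc, e1, mul_assoc, e2, mul_eq_one_iff_eq_inv, hinv] at hT1
  have h5 : H u = mk u := hfix (τ a)
  rw [hcls u (τ (τ a)) hT1.symm, hau, ← hT1, ← e1, ← mul_assoc, ← map_mul, ← pow_two, hmk1,
    one_mul] at h5
  have h6 : mk a = 1 := by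
    exact mul_eq_right.1 h5.symm
  obtain ⟨q, hq⟩ := (QuotientGroup.eq_one_iff a).1 h6
  exact ⟨q, by rw [← hroot p, ← ha, ← show q ^ 2 = a from hq, ← pow_mul]⟩

end Rot3

end CfsgLib.ScnThree
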