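import Cfsg.Agent.ScnThree.Common

/-!
The case of a non-central maximal invariant normal abelian subgroup: special of order 64.
-/

set_option autoImplicit false
set_option linter.style.haveILetI false

namespace CfsgLib.ScnThree

open Subgroup Cfsg
open scoped IsMulCommutative

variable {X : Type*} [Group X] [Finite X] {A : Subgroup (MulAut X)} {M : Subgroup X} {φ : MulAut X}

theorem self_cent [IsMulCommutative M] (h : Hyp A) (hM : AbN A M) (R : RotX A M φ) {n : ℕ}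
    (hn : Expo M n) (h1 : 1 ≤ n) (hmax : ∀ N, AbN A N → M ≤ N → N = M) {x : X}
    (hx : ∀ m ∈ M, x * m = m * x) : x ∈ M := by
  haveI := hM.nrm
  by_contra hxM
  set C := centralizer (M : Set X) with hC
  have hmemC : ∀ {y}, y ∈ C ↔ ∀ m ∈ M, y * m = m * y := fun {y} =>
    ⟨fun hy m hm => (mem_centralizer_iff.1 hy m hm).symm,
      fun hy => mem_centralizer_iff.2 fun m hm => (hy m hm).symm⟩
  have hMC : M ≤ C := fun a ha => hmemC.2 fun m hm => hM.comm a ha m hm
  haveI : C.Normal := Subgroup.normal_centralizer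
  have hlt : M < C := lt_of_le_of_ne hMC fun e => hxM (e.symm ▸ hmemC.2 hx)
  obtain ⟨u₀, hu₀C, hu₀M, hu₀2, hu₀Z⟩ := exists_sq_mem h.two M C hlt
  set W := C ⊓ centMod M with hW
  have hcommM : ∀ u ∈ W, ∀ v ∈ W, u * v * u⁻¹ * v⁻¹ ∈ M := fun u hu v _ => mem_centMod.1 hu.2 v
  let U : Subgroup X :=
    { carrier := {u | u ∈ W ∧ u ^ 2 ∈ M}
      one_mem' := ⟨W.one_mem, by simp [M.one_mem]⟩
      inv_mem' := fun {u} hu => ⟨W.inv_mem hu.1, by rw [inv_pow]; exact M.inv_mem hu.2⟩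
      mul_mem' := fun {u v} hu hv => ⟨W.mul_mem hu.1 hv.1, by
        set c := v * u * v⁻¹ * u⁻¹ with hc
        have hcm : c ∈ M := hcommM v hv.1 u hu.1
        rw [pow_two, show u * v * (u * v) = u * (v * u * v⁻¹ * u⁻¹) * u * v * v by group, ← hc,
          hmemC.1 hu.1.1 c hcm]
        have := M.mul_mem (M.mul_mem hcm hu.2) hv.2
        simpa [pow_two, mul_assoc] using this⟩ }
  have hUdef : ∀ {u}, u ∈ U ↔ u ∈ W ∧ u ^ 2 ∈ M := fun {u} => Iff.rfl
  have hcent : ∀ u ∈ U, ∀ m ∈ M, u * m = m * u := fun u hu => hmemC.1 hu.1.1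
  have hcommO : ∀ u ∈ U, ∀ v ∈ U, u * v * u⁻¹ * v⁻¹ ∈ Om M := fun u hu v hv => by
    set c := u * v * u⁻¹ * v⁻¹ with hc
    have hcm : c ∈ M := hcommM u hu.1 v hv.1
    refine hM.mem_om.2 ⟨hcm, ?_⟩
    have e1 : u * c * u⁻¹ = c := by rw [hcent u hu c hcm, mul_inv_cancel_right]
    calc c ^ 2 = u * c * u⁻¹ * c := by rw [e1, pow_two]
      _ = u ^ 2 * v * (u ^ 2)⁻¹ * v⁻¹ := by rw [hc]; simp only [pow_two, mul_inv_rev, mul_assoc, inv_mul_cancel_left]
      _ = 1 := by rw [← hcent v hv _ hu.2, mul_inv_cancel_right, mul_inv_cancel]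
  have hUinv : ∀ a ∈ A, ∀ u ∈ U, a u ∈ U := by
    intro a ha u hu
    refine ⟨⟨hmemC.2 fun m hm => ?_, mem_centMod.2 fun g => ?_⟩, ?_⟩
    · have hb : a⁻¹ m ∈ M := hM.inv a⁻¹ (A.inv_mem ha) m hm
      have hm' : a (a⁻¹ m) = m := by rw [MulAut.apply_inv_self]
      rw [← hm', ← map_mul, hcent u hu _ hb, map_mul]
    · obtain ⟨g, rfl⟩ := a.surjective g
      rw [← map_inv, ← map_inv, ← map_mul, ← map_mul, ← map_mul]
      exact hM.inv a ha _ (mem_centMod.1 hu.1.2 g)
    · rw [← map_pow]; exact hM.inv a ha _ hu.2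
  have hker : ∀ u ∈ U, ∀ q ∈ M, q ^ 2 = u ^ 2 → u ∈ M := by
    intro u hu q hq hq2
    set v := u * q⁻¹ with hv
    have hqW : q ∈ W := ⟨hMC hq, mem_centMod.2 fun g => by
      rw [show q * g * q⁻¹ * g⁻¹ = q * (g * q⁻¹ * g⁻¹) by group]
      exact M.mul_mem hq (hM.nrm.conj_mem _ (M.inv_mem hq) g)⟩
    have hv2 : v ^ 2 = 1 := by
      rw [hv, Commute.mul_pow (hcent u hu _ (M.inv_mem hq)), inv_pow, hq2, mul_inv_cancel]
    have hvW : v ∈ W := W.mul_mem hu.1 (W.inv_mem hqW)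
    have hvX : ∀ y, v * y * v⁻¹ * y⁻¹ ∈ Om M := fun y => by
      have hd := mem_centMod.1 hvW.2 y
      refine hM.mem_om.2 ⟨hd, ?_⟩
      set d := v * y * v⁻¹ * y⁻¹ with hdd
      have e1 : v * d * v⁻¹ = d := by rw [hmemC.1 hvW.1 d hd, mul_inv_cancel_right]
      calc d ^ 2 = v * d * v⁻¹ * d := by rw [e1, pow_two]
        _ = v ^ 2 * y * (v ^ 2)⁻¹ * y⁻¹ := by rw [hdd]; simp only [pow_two, mul_inv_rev, mul_assoc, inv_mul_cancel_left]
        _ = 1 := by rw [hv2]; group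
    have := h.mem_of_four (hM.om_central h) (fun e he => (hM.mem_om.1 he).2) R.card_om hv2 hvX
    have h' := M.mul_mem (hM.mem_om.1 this).1 hq
    rwa [hv, inv_mul_cancel_right] at h'
  have hUc := R.comm_of_sq hM h hn h1 U (hUinv φ R.mem) hcent (fun u hu => hu.2) hcommO hker
  have hMU : M ≤ U := fun m hm => ⟨⟨hMC hm, mem_centMod.2 fun g => by
      rw [show m * g * m⁻¹ * g⁻¹ = m * (g * m⁻¹ * g⁻¹) by group]
      exact M.mul_mem hm (hM.nrm.conj_mem _ (M.inv_mem hm) g)⟩, M.pow_mem hm 2⟩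
  have hUn : U.Normal := ⟨fun u hu g => ⟨(inferInstance : C.Normal).conj_mem u hu.1.1 g |> fun h' =>
      ⟨h', ((inferInstance : (center (X ⧸ M)).Normal).comap (QuotientGroup.mk' M)).conj_mem u hu.1.2 g⟩,
      by rw [conj_pow]; exact hM.nrm.conj_mem _ hu.2 g⟩⟩
  exact hu₀M (hmax U ⟨hUn, hUinv, hUc⟩ hMU ▸ ⟨⟨hu₀C, hu₀Z⟩, hu₀2⟩)

/-- For `x ^ 2 ∈ M` and exponent at least 8 the commutator map has image of exponent two. -/
theorem image_om [M.Normal] [IsMulCommutative M] (h : Hyp A) (hM : AbN A M) (R : RotX A M φ) {n : ℕ}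
    (hn : Expo M n) (h2 : 2 ≤ n) {x : X} (hx : x ^ 2 ∈ M) (p : M) : D x p ^ 2 = 1 := by
  have R3 := R.rot3 hM h
  set τ := R.tau hM
  have hsq : ∀ (y : X) (p : M), ∃ q : M, q ^ 2 = D y p := by
    intro y p
    refine R3.mem_sq hn _ ?_
    rw [← map_pow]
    refine D_eq_one_iff.2 (mem_center_iff.1 (hM.om_central h (hM.mem_om.2 ⟨(p ^ 2 ^ n).2, ?_⟩)) y)
    rw [← Subgroup.coe_pow, ← pow_mul, ← pow_succ, hn.1 p, Subgroup.coe_one]
  have hfour : ∀ (y z : X) (p : M), D y (D z p) ∈ (powMonoidHom 4 : M →* M).range := by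
    intro y z p
    obtain ⟨q, hq⟩ := hsq z p
    obtain ⟨s, hs⟩ := hsq y q
    refine ⟨s, ?_⟩
    rw [← hq, map_pow, ← hs, powMonoidHom_apply, ← pow_mul]
  have hτ4 : ∀ q ∈ (powMonoidHom 4 : M →* M).range, τ q ∈ (powMonoidHom 4 : M →* M).range := by
    rintro _ ⟨q, rfl⟩
    exact ⟨τ q, (map_pow τ q 4).symm⟩
  have hDD : ∀ p : M, D x (D x p) * D x p ^ 2 = 1 := fun p => by
    have h1 := D_comp x x p
    rw [← pow_two x, D_mem hx p, ← pow_two] at h1
    rw [mul_comm]; exact h1.symm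
  have h4 := R3.image_fourth hn h2 (D x) (hsq x) hDD fun p => by
    obtain ⟨q, hq⟩ := R.T_mem hM h _ hτ4 hfour x p
    exact ⟨q, hq⟩
  have hj : ∀ j, 2 ≤ j → j ≤ n → ∀ p, ∃ q : M, q ^ 2 ^ j = D x p := by
    intro j hj2
    induction j, hj2 using Nat.le_induction with
    | base => exact fun _ => h4
    | succ j hj2 ih =>
      intro hjn p
      obtain ⟨s, hs⟩ := ih (by omega) p
      obtain ⟨t, ht⟩ := ih (by omega) s
      have e := hDD p
      rw [← hs, map_pow, ← ht, ← pow_mul, ← pow_mul, ← pow_add, ← pow_succ] at e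
      obtain ⟨k, rfl⟩ := Nat.exists_eq_add_of_le hjn
      have e2 := congrArg (· ^ 2 ^ k) e
      simp only [mul_pow, ← pow_mul, one_pow, ← pow_add] at e2
      obtain ⟨i, hi⟩ := Nat.exists_eq_add_of_le (show j + 1 + k + 1 ≤ j + j + k by omega)
      rw [hi, pow_add 2 (j + 1 + k + 1) i, pow_mul, hn.1 t, one_pow, one_mul] at e2
      obtain ⟨q, hq⟩ := R3.mem_sq hn s e2
      exact ⟨q, by rw [pow_succ', pow_mul, hq, hs]⟩
  obtain ⟨q, hq⟩ := hj n h2 le_rfl p
  rw [← hq, ← pow_mul, ← pow_succ]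
  exact hn.1 q

theorem exponent_le_four [M.Normal] [IsMulCommutative M] (h : Hyp A) (hM : AbN A M) (R : RotX A M φ) {n : ℕ}
    (hn : Expo M n) (hC : ∀ x : X, (∀ m ∈ M, x * m = m * x) → x ∈ M) (hlt : M < ⊤) : n ≤ 1 := by
  by_contra hn1
  have h2 : 2 ≤ n := by omega
  have R3 := R.rot3 hM h
  set τ := R.tau hM with hτ
  obtain ⟨x, -, hxM, hx2, hxZ⟩ := exists_sq_mem h.two M ⊤ hlt
  have hx' : (φ x) ^ 2 ∈ M := by rw [← map_pow]; exact hM.inv φ R.mem _ hx2
  have hkill : ∀ y : X, y ^ 2 ∈ M → ∀ d : M, d ^ 2 ^ n = 1 → D y d = 1 := fun y hy d hd => by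
    obtain ⟨q, rfl⟩ := R3.mem_sq hn d hd
    rw [map_pow, image_om h hM R hn h2 hy]
  have hd4 : ∀ d : M, d ^ 4 = 1 → d ^ 2 ^ n = 1 := fun d hd => by
    obtain ⟨k, rfl⟩ := Nat.exists_eq_add_of_le h2
    rw [pow_add, pow_mul, show (2 : ℕ) ^ 2 = 4 from rfl, hd, one_pow]
  set c : M := ⟨x ^ 2, hx2⟩ with hc
  set d : M := ⟨x * φ x * x⁻¹ * (φ x)⁻¹, mem_centMod.1 hxZ (φ x)⟩ with hd
  have e1 : D x (τ c) = d * D (φ x) d * d := by
    apply Subtype.ext
    rw [Subgroup.coe_mul, Subgroup.coe_mul, D_coe, D_coe, hτ, RotX.tau_coe]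
    show x * φ (x ^ 2) * x⁻¹ * (φ (x ^ 2))⁻¹ = _
    rw [map_pow]
    simp only [hd, pow_two]
    group
  have e2 : D (φ x) c = d⁻¹ * D x d⁻¹ * d⁻¹ := by
    apply Subtype.ext
    rw [Subgroup.coe_mul, Subgroup.coe_mul, D_coe, D_coe, Subgroup.coe_inv]
    simp only [hc, hd, pow_two]
    group
  have hd4' : d ^ 4 = 1 := by
    have h1 := image_om h hM R hn h2 hx2 (τ c)
    rw [e1, show d * D (φ x) d * d = D (φ x) d * d ^ 2 by rw [pow_two, mul_comm d, mul_assoc],
      mul_pow, image_om h hM R hn h2 hx', one_mul, ← pow_mul] at h1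
    exact h1
  rw [hkill _ hx' d (hd4 d hd4'), mul_one, ← pow_two] at e1
  rw [hkill _ hx2 d⁻¹ (by rw [inv_pow, hd4 d hd4', inv_one]), mul_one, ← pow_two, inv_pow] at e2
  have hDc : D x c = 1 := D_eq_one_iff.2 (Commute.pow_right (Commute.refl x) 2)
  have e3 : D x (τ (τ c)) = (d ^ 2)⁻¹ := by
    rw [R3.tt, map_inv, map_mul, hDc, one_mul, e1]
  rw [R.D_phi hM, ← hτ, e3] at e2
  have hfix : d ^ 2 = 1 := by
    refine R3.fixed _ ?_
    rw [map_inv, inv_inj] at e2
    exact e2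
  rw [hfix] at e1
  obtain ⟨q, hq⟩ : ∃ q : M, q ^ 2 = c := by
    refine R3.mem_sq hn c (by_contra fun hc1 => hxM (hC x fun m hm => ?_))
    have htop := R3.gen hn c hc1 (D x).ker hDc e1
    exact D_eq_one_iff.1 (MonoidHom.mem_ker.1 (htop ▸ mem_top (⟨m, hm⟩ : M)))
  obtain ⟨s, hs⟩ := R3.exists_root_top hn (D x q) (image_om h hM R hn h2 hx2 q)
  obtain ⟨k, hk⟩ := Nat.exists_eq_add_of_le h2
  set t := s ^ 2 ^ (k + 1) with ht
  have ht2 : t ^ 2 = D x q := by
    rw [← hs, ht, ← pow_mul, ← pow_succ, hk, show 2 + k = k + 1 + 1 by omega]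
  have htD : D x t = 1 := by
    rw [ht, map_pow, pow_succ', pow_mul, image_om h hM R hn h2 hx2, one_pow]
  set p : M := q⁻¹ * t with hp
  have hp1 : D x p * p * c * p = 1 := by
    have : D x p * p * c * p = D x p * (p ^ 2 * c) := by
      rw [pow_two]; simp only [mul_assoc, mul_comm c p]
    rw [this, hp, map_mul, map_inv, htD, mul_one, mul_pow, inv_pow, hq, ht2, mul_comm c⁻¹,
      inv_mul_cancel_right, inv_mul_cancel]
  set v := x * (p : X) with hv
  have hv2 : v ^ 2 = 1 := by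
    have : v ^ 2 = ((D x p * p * c * p : M) : X) := by
      rw [Subgroup.coe_mul, Subgroup.coe_mul, ← conj_eq, hv, hc]
      simp only [pow_two]
      group
    rw [this, hp1, Subgroup.coe_one]
  have hvZ : v ∈ centMod M := (centMod M).mul_mem hxZ (mem_centMod.2 fun g => by
    rw [show (p : X) * g * (p : X)⁻¹ * g⁻¹ = (p : X) * (g * (p : X)⁻¹ * g⁻¹) by group]
    exact M.mul_mem p.2 (hM.nrm.conj_mem _ (M.inv_mem p.2) g))
  have hDv : ∀ r : M, D v r = D x r := fun r => by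
    rw [hv, D_comp (M := M), D_mem (M := M) p.2 r, map_one, mul_one, mul_one]
  have hvX : ∀ y, v * y * v⁻¹ * y⁻¹ ∈ Om M := fun y => by
    set e : M := ⟨v * y * v⁻¹ * y⁻¹, mem_centMod.1 hvZ y⟩ with he
    have h1 : D v e * e * e = 1 := by
      apply Subtype.ext
      rw [Subgroup.coe_mul, ← conj_eq, Subgroup.coe_one]
      show v * (v * y * v⁻¹ * y⁻¹) * v⁻¹ * (v * y * v⁻¹ * y⁻¹) = 1
      calc v * (v * y * v⁻¹ * y⁻¹) * v⁻¹ * (v * y * v⁻¹ * y⁻¹) = v ^ 2 * y * (v ^ 2)⁻¹ * y⁻¹ := by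
            simp only [pow_two, mul_inv_rev, mul_assoc, inv_mul_cancel_left]
        _ = 1 := by rw [hv2]; group
    rw [hDv, mul_assoc, ← pow_two] at h1
    have h4 : e ^ 4 = 1 := by
      have := congrArg (· ^ 2) h1
      simp only [mul_pow, one_pow, image_om h hM R hn h2 hx2, one_mul, ← pow_mul] at this
      exact this
    rw [hkill _ hx2 e (hd4 e h4), one_mul] at h1
    exact hM.mem_om.2 ⟨e.2, by simpa [he] using congrArg Subtype.val h1⟩
  have hvM := (hM.mem_om.1 (h.mem_of_four (hM.om_central h) (fun e he => (hM.mem_om.1 he).2) R.card_om hv2 hvX)).1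
  have h' := M.mul_mem hvM (M.inv_mem p.2)
  rw [hv, mul_inv_cancel_right] at h'
  exact hxM h'

theorem noncentral (h : Hyp A) (hM : AbN A M) (hnc : ¬ M ≤ center X)
    (hmax : ∀ N, AbN A N → M ≤ N → N = M) : Special64 X := by
  haveI := hM.nrm
  haveI := hM.isComm
  obtain ⟨φ, R⟩ := hM.exists_rot h (hM.exists_moved h hnc)
  have R3 := R.rot3 hM h
  obtain ⟨n, hn⟩ := R.exists_expo hM h
  have hn1 : 1 ≤ n := by
    refine Nat.one_le_iff_ne_zero.2 fun h0 => hnc fun m hm => ?_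
    refine hM.om_central h (hM.mem_om.2 ⟨hm, ?_⟩)
    have := congrArg Subtype.val (hn.1 ⟨m, hm⟩)
    simpa [h0] using this
  have hC : ∀ x : X, (∀ m ∈ M, x * m = m * x) → x ∈ M := fun x hx => self_cent h hM R hn hn1 hmax hx
  have hlt : M < ⊤ := lt_top_iff_ne_top.2 fun e => hnc fun m hm => mem_center_iff.2 fun g =>
    hM.comm g (e ▸ mem_top g) m hm
  obtain rfl : n = 1 := le_antisymm (exponent_le_four h hM R hn hC hlt) hn1
  set τ := R.tau hM with hτ
  have hD2 : ∀ (x : X) (p : M), D x p ^ 2 = 1 := fun x p => by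
    rw [← map_pow]
    refine D_eq_one_iff.2 (mem_center_iff.1 (hM.om_central h (hM.mem_om.2 ⟨(p ^ 2).2, ?_⟩)) x)
    rw [← Subgroup.coe_pow, ← pow_mul, ← Subgroup.coe_one M]
    exact congrArg Subtype.val (hn.1 p)
  have hD1 : ∀ (x : X) (p : M), p ^ 2 = 1 → D x p = 1 := fun x p hp => by
    obtain ⟨q, rfl⟩ := R3.mem_sq hn p hp
    rw [map_pow, hD2]
  have hhom : ∀ (x y : X) (p : M), D (x * y) p = D x p * D y p := fun x y p => by
    rw [D_comp, hD1 x _ (hD2 y p), mul_one]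
  have hT : ∀ (x : X) (p : M), D x p * τ (D x (τ (τ p))) * τ (τ (D x (τ p))) = 1 := fun x p => by
    refine Subgroup.mem_bot.1 (R.T_mem hM h ⊥ (fun q hq => ?_) (fun y z r => ?_) x p)
    · rw [Subgroup.mem_bot.1 hq, map_one]; exact one_mem _
    · rw [hD1 y _ (hD2 z r)]; exact one_mem _
  have hinv2 : ∀ e : M, e ^ 2 = 1 → e⁻¹ = e := fun e he =>
    inv_eq_of_mul_eq_one_right (by rw [← pow_two]; exact he)
  have hzero : ∀ (x : X) (r : M), r ^ 2 ≠ 1 → D x r = 1 → x ∈ M := by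
    intro x r hr hr1
    have h1 := hT x r
    rw [hr1, one_mul, R3.tt r, map_inv, map_mul, hr1, one_mul, hinv2 _ (hD2 x _)] at h1
    set e := D x (τ r) with he
    have he1 : e = 1 := by
      refine R3.fixed e (τ.injective ?_)
      have := eq_inv_of_mul_eq_one_right h1
      rw [this, hinv2 _ (by rw [← map_pow, hD2, map_one])]
    refine hC x fun m hm => (D_eq_one_iff (p := (⟨m, hm⟩ : M))).1 ?_
    have htop := R3.gen hn r (by simpa using hr) (D x).ker hr1 he1
    exact MonoidHom.mem_ker.1 (htop ▸ mem_top (⟨m, hm⟩ : M))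
  obtain ⟨r, hr⟩ := hn.2
  rw [pow_one] at hr
  let f : X →* M :=
    { toFun := fun x => D x r
      map_one' := D_mem M.one_mem r
      map_mul' := fun x y => hhom x y r }
  have hker : f.ker = M := le_antisymm (fun x hx => hzero x r hr hx) fun x hx => D_mem hx r
  have hrange : f.range = (powMonoidHom 2 : M →* M).ker := by
    refine le_antisymm ?_ fun y hy => R3.om_le f.range ?_ ?_ y hy
    · rintro _ ⟨x, rfl⟩; exact hD2 x r
    · intro hb
      refine hnc fun m hm => mem_center_iff.2 fun g => ?_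
      have hg : g ∈ f.ker := by
        rw [MonoidHom.mem_ker, ← Subgroup.mem_bot, ← hb]; exact ⟨g, rfl⟩
      rw [hker] at hg
      exact hM.comm g hg m hm
    · rintro _ ⟨x, rfl⟩
      refine ⟨(φ * φ * φ * φ * φ) x, ?_⟩
      show D (φ (φ (φ (φ (φ x))))) r = τ (D x r)
      -- the fifth power acts on the image as the rotation
      have hstep : ∀ y : X, D (φ y) r = τ (τ (D y r)) := fun y => by
        set a := D y r with ha'
        set b := D y (τ r) with hb'
        have htt : D y (τ (τ r)) = a * b := by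
          rw [R3.tt r, map_inv, map_mul, hinv2 _ (by rw [mul_pow, hD2, hD2, one_mul])]
        have ha := hT y r
        rw [htt, ← ha', ← hb', map_mul] at ha
        have i1 : τ b * τ (τ b) = b :=
          (eq_inv_of_mul_eq_one_right (by rw [← mul_assoc]; exact R3.rot b)).trans (hinv2 b (hD2 y _))
        have h2 : a * τ a * b = 1 := by
          rw [← i1, ← ha]; simp only [mul_assoc]
        have hbb : b = τ (τ a) := (eq_inv_of_mul_eq_one_right h2).trans (R3.tt a).symm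
        rw [R.D_phi hM, ← hτ, htt, map_mul, hbb, R3.cube, mul_comm (τ a) a, R3.tt a, hinv2 (a * τ a)]
        rw [mul_pow, show a ^ 2 = 1 from hD2 y r, one_mul, ← map_pow, show a ^ 2 = 1 from hD2 y r, map_one]
      simp only [hstep, map_inv, R3.cube]
  have hindex : M.index = 4 := by
    rw [← hker, Subgroup.index_ker, hrange, ← R.card_om]
    refine Nat.card_congr ⟨fun e => ⟨(e.1 : X), hM.mem_om.2 ⟨e.1.2, ?_⟩⟩,
      fun e => ⟨⟨e.1, (hM.mem_om.1 e.2).1⟩, Subtype.ext (hM.mem_om.1 e.2).2⟩,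
      fun e => rfl, fun e => rfl⟩
    exact congrArg Subtype.val (MonoidHom.mem_ker.1 e.2)
  have hMcard : Nat.card M = 16 := by
    have h1 := (powMonoidHom 2 : M →* M).ker.card_mul_index
    rw [Subgroup.index_ker] at h1
    have h2 : Nat.card (powMonoidHom (2 ^ 1) : M →* M).range = Nat.card (powMonoidHom 2 : M →* M).ker := by
      rw [R3.range_top hn]
    rw [show (2 : ℕ) ^ 1 = 2 from rfl] at h2
    rw [h2] at h1
    have h3 : Nat.card (powMonoidHom 2 : M →* M).ker = 4 := by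
      rw [← hrange, ← Subgroup.index_ker, hker, hindex]
    rw [h3] at h1
    omega
  have hcard : Nat.card X = 64 := by rw [← M.card_mul_index, hindex, hMcard]
  have hcen : center X = Om M := by
    refine le_antisymm (fun z hz => ?_) (hM.om_central h)
    have hzM := hC z fun m _ => (mem_center_iff.1 hz m).symm
    refine hM.mem_om.2 ⟨hzM, ?_⟩
    obtain ⟨x, hx⟩ : ∃ x, x ∉ M := by
      by_contra hno
      push Not at hno
      exact (ne_of_lt hlt) (eq_top_iff.2 fun g _ => hno g)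
    by_contra hz2
    refine hx (hzero x ⟨z, hzM⟩ (fun e => hz2 (by simpa using congrArg Subtype.val e)) ?_)
    exact D_eq_one_iff.2 (mem_center_iff.1 hz x)
  have hsq : ∀ x : X, x ^ 2 ∈ Om M := by
    intro x
    have hx2 : x ^ 2 ∈ M := by
      rw [← hker, MonoidHom.mem_ker, map_pow]; exact hD2 x r
    refine hM.mem_om.2 ⟨hx2, ?_⟩
    by_contra h4
    have hxM : x ∈ M := hzero x ⟨x ^ 2, hx2⟩ (fun e => h4 (congrArg Subtype.val e))
      (D_eq_one_iff.2 (Commute.pow_right (Commute.refl x) 2))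
    exact h4 (by rw [← pow_mul]; exact congrArg Subtype.val (hn.1 ⟨x, hxM⟩))
  have hcom : commutator X = Om M := by
    refine le_antisymm ?_ fun e he => ?_
    · rw [_root_.commutator_def, Subgroup.commutator_le]
      intro x _ y _
      rw [commutatorElement_def]
      have hd : x * y * x⁻¹ * y⁻¹ ∈ M := by
        rw [← hker, MonoidHom.mem_ker]
        simp only [map_mul, map_inv]
        rw [mul_comm (f x) (f y)]
        group
      set d : M := ⟨_, hd⟩ with hdd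
      have hxx : D x d * d * d = 1 := by
        apply Subtype.ext
        rw [Subgroup.coe_mul, ← conj_eq, Subgroup.coe_one]
        show x * (x * y * x⁻¹ * y⁻¹) * x⁻¹ * (x * y * x⁻¹ * y⁻¹) = 1
        calc x * (x * y * x⁻¹ * y⁻¹) * x⁻¹ * (x * y * x⁻¹ * y⁻¹) = x ^ 2 * y * (x ^ 2)⁻¹ * y⁻¹ := by
              simp only [pow_two, mul_inv_rev, mul_assoc, inv_mul_cancel_left]
          _ = 1 := by rw [← mem_center_iff.1 (hM.om_central h (hsq x)) y, mul_inv_cancel_right, mul_inv_cancel]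
      have hyy : D y d * d * d = 1 := by
        have hsw : D y d * d * d = d * (D y d * d) := mul_comm _ _
        rw [hsw]
        apply Subtype.ext
        rw [Subgroup.coe_mul, ← conj_eq, Subgroup.coe_one]
        show x * y * x⁻¹ * y⁻¹ * (y * (x * y * x⁻¹ * y⁻¹) * y⁻¹) = 1
        calc x * y * x⁻¹ * y⁻¹ * (y * (x * y * x⁻¹ * y⁻¹) * y⁻¹) = x * y ^ 2 * x⁻¹ * (y ^ 2)⁻¹ := by
              simp only [pow_two, mul_inv_rev, mul_assoc, inv_mul_cancel_left]
          _ = 1 := by rw [mem_center_iff.1 (hM.om_central h (hsq y)) x, mul_inv_cancel_right, mul_inv_cancel]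
      refine hM.mem_om.2 ⟨hd, ?_⟩
      by_contra hd2
      have hd2' : d ^ 2 ≠ 1 := fun e => hd2 (congrArg Subtype.val e)
      have hxy : D (x⁻¹ * y) d = 1 := by
        have e : D x d = D y d := mul_right_cancel (mul_right_cancel (hxx.trans hyy.symm))
        have h1 : D x⁻¹ d * D x d = 1 := by
          rw [← hhom, inv_mul_cancel, D_mem M.one_mem]
        rw [hhom, ← e, h1]
      set p : M := ⟨x⁻¹ * y, hzero _ d hd2' hxy⟩ with hp
      have hde : d = D x (D x p) * D x p := by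
        apply Subtype.ext
        rw [← conj_eq, D_coe]
        show x * y * x⁻¹ * y⁻¹ = x * (x * (x⁻¹ * y) * x⁻¹ * (x⁻¹ * y)⁻¹) * x⁻¹
        group
      rw [hD1 x _ (hD2 x p), one_mul] at hde
      exact hd2' (hde ▸ hD2 x p)
    · have hek : (⟨e, (hM.mem_om.1 he).1⟩ : M) ∈ f.range := by
        rw [hrange]; exact Subtype.ext (hM.mem_om.1 he).2
      obtain ⟨x, hx⟩ := hek
      have hx' : x * r * x⁻¹ * (r : X)⁻¹ = e := by rw [← D_coe]; exact congrArg Subtype.val hx
      rw [← hx', ← commutatorElement_def]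
      exact commutator_mem_commutator (mem_top _) (mem_top _)
  refine special64_of h.two (Om M) hcen hcom hsq (fun v => ⟨fun hv => ?_, fun hv => (hM.mem_om.1 hv).2⟩)
    hcard R.card_om
  refine h.mem_of_four (hM.om_central h) (fun e he => (hM.mem_om.1 he).2) R.card_om hv fun y => ?_
  rw [← hcom, ← commutatorElement_def]
  exact commutator_mem_commutator (mem_top _) (mem_top _)

end CfsgLib.ScnThree
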