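import Cfsg.Agent.ScnThree.Central
import Cfsg.Agent.ScnThree.Noncentral

/-!
The quadratic map of the special group: the three conclusions.
-/

set_option autoImplicit false
set_option linter.style.haveILetI false

namespace CfsgLib.ScnThree

open Subgroup Cfsg
open scoped IsMulCommutative

variable {X : Type*} [Group X] [Finite X] {A : Subgroup (MulAut X)}

namespace C2

variable (c : C2 A)

include c

theorem out_sq (x : X) : ((x : X ⧸ center X).out) ^ 2 = x ^ 2 := by
  obtain ⟨z, hz⟩ := QuotientGroup.mk_out_eq_mul (center X) x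
  rw [hz, c.sq_center z.2]

theorem out_br (x w : X) : br ((x : X ⧸ center X).out) w = br x w := by
  obtain ⟨z, hz⟩ := QuotientGroup.mk_out_eq_mul (center X) x
  rw [hz, c.br_center z.2]

open scoped Classical in
theorem deg_two (H : Subgroup X)
    (hH : ∀ a ∈ center X, ∀ b ∈ center X, (a * b ∈ H ↔ (a ∈ H ↔ b ∈ H))) :
    haveI := c.comm_quot
    Deg 2 fun v : X ⧸ center X => if v.out ^ 2 ∈ H then (1 : ZMod 2) else 0 := by
  haveI := c.comm_quot
  set i : X → ZMod 2 := fun z => if z ∈ H then 1 else 0 with hi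
  have h2 : ∀ a ∈ center X, ∀ b ∈ center X, i (a * b) = i a + i b + 1 := by
    intro a ha b hb
    have h := hH a ha b hb
    by_cases h1 : a ∈ H <;> by_cases h3 : b ∈ H
    · simp only [hi, if_pos h1, if_pos h3, if_pos (h.2 (iff_of_true h1 h3))]; decide
    · simp only [hi, if_pos h1, if_neg h3, if_neg (fun e => h3 ((h.1 e).1 h1))]; decide
    · simp only [hi, if_neg h1, if_pos h3, if_neg (fun e => h1 ((h.1 e).2 h3))]; decide
    · simp only [hi, if_neg h1, if_neg h3, if_pos (h.2 (iff_of_false h1 h3))]; decide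
  intro a b u v
  induction a using QuotientGroup.induction_on with | H a => ?_
  induction b using QuotientGroup.induction_on with | H b => ?_
  have key : ∀ x : X,
      (i (((x * b * a : X) : X ⧸ center X).out ^ 2) + i (((x * b : X) : X ⧸ center X).out ^ 2)) +
      (i (((x * a : X) : X ⧸ center X).out ^ 2) + i (((x : X) : X ⧸ center X).out ^ 2)) = i (br a b) + 1 := by
    intro x
    have e : ∀ y : X, i (((y * a : X) : X ⧸ center X).out ^ 2) + i ((y : X ⧸ center X).out ^ 2) =
        i (br a y) + i (a ^ 2) := by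
      intro y
      rw [c.out_sq, c.out_sq, c.sq_mul, h2 _ (c.br_mem _ _) _ ((center X).mul_mem (c.sq y) (c.sq a)),
        h2 _ (c.sq y) _ (c.sq a)]
      generalize i (br a y) = P, i (y ^ 2) = Q, i (a ^ 2) = R
      revert P Q R; decide
    rw [e (x * b), e x, c.br_mul_right, h2 _ (c.br_mem _ _) _ (c.br_mem _ _)]
    generalize i (br a x) = P, i (br a b) = Q, i (a ^ 2) = R
    revert P Q R; decide
  induction u using QuotientGroup.induction_on with | H u => ?_
  induction v using QuotientGroup.induction_on with | H v => ?_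
  exact (key u).trans (key v).symm

theorem four_le (h4 : Nat.card (center X) = 4) :
    Special64 X := by
  classical
  haveI := c.comm_quot
  haveI : Fact (Nat.Prime 2) := ⟨Nat.prime_two⟩
  have hinv : ∀ v : X, v ^ 2 = 1 ↔ v ∈ center X := fun v =>
    ⟨fun hv => c.hyp.mem_of_four le_rfl c.el h4 hv fun y => c.br_mem v y, fun hv => c.el v hv⟩
  have hbig : 8 < Nat.card (X ⧸ center X) := by
    obtain ⟨k, hk⟩ := (c.hyp.two.to_quotient (center X)).exists_card_eq
    have h1 : ¬ Nat.card (X ⧸ center X) ≤ 4 := fun h => by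
      have := (c.small h).1
      omega
    have h2 := c.ne_eight
    rw [hk] at h1 h2 ⊢
    rcases Nat.lt_or_ge k 4 with hk' | hk'
    · interval_cases k <;> omega
    · calc 8 < 2 ^ 4 := by norm_num
        _ ≤ 2 ^ k := Nat.pow_le_pow_right (by norm_num) hk'
  have hsmall : Nat.card (X ⧸ center X) ≤ 16 := by
    by_contra hlt
    haveI : Nontrivial (center X) := Finite.one_lt_card_iff_nontrivial.1 (by omega)
    obtain ⟨⟨e1, he1⟩, he1'⟩ := exists_ne (1 : center X)
    have he11 : e1 ≠ 1 := fun e => he1' (Subtype.ext e)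
    obtain ⟨e2, he2, he21, he12⟩ : ∃ e ∈ center X, e ≠ 1 ∧ e1 ≠ e := by
      by_contra hno
      push Not at hno
      have hs : (center X : Set X) ⊆ {1, e1} := fun z hz => by
        by_cases hz1 : z = 1
        · exact Or.inl hz1
        · exact Or.inr (hno z hz hz1).symm
      have := Set.ncard_le_ncard hs (Set.toFinite _)
      rw [Set.ncard_pair (Ne.symm he11)] at this
      rw [← Nat.card_coe_set_eq] at this
      change Nat.card (center X) ≤ 2 at this
      omega
    have four := fun {y} (hy : y ∈ center X) => mem_four (y := y) h4.le c.el he1 he2 he11 he21 he12 hy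
    have hmem : ∀ e ∈ center X, ∀ z, z ∈ zpowers e ↔ z = 1 ∨ z = e := by
      intro e he z
      refine ⟨fun hz => ?_, fun hz => ?_⟩
      · obtain ⟨k, rfl⟩ := mem_zpowers_iff.1 hz
        rcases Int.even_or_odd k with ⟨j, rfl⟩ | ⟨j, rfl⟩
        · left; rw [zpow_add, ← (Commute.refl e).mul_zpow, ← pow_two, c.el e he, one_zpow]
        · right; rw [zpow_add, zpow_mul, zpow_two, ← pow_two, c.el e he, one_zpow, one_mul, zpow_one]
      · rcases hz with rfl | rfl
        · exact one_mem _
        · exact mem_zpowers _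
    have hiff : ∀ e f, e ∈ center X → f ∈ center X → e ≠ 1 → f ≠ 1 → e ≠ f →
        ∀ a ∈ center X, ∀ b ∈ center X, (a * b ∈ zpowers e ↔ (a ∈ zpowers e ↔ b ∈ zpowers e)) := by
      intro e f he hf he0 hf0 hef a ha b hb
      by_cases h1 : a ∈ zpowers e <;> by_cases h2 : b ∈ zpowers e
      · exact iff_of_true ((zpowers e).mul_mem h1 h2) (iff_of_true h1 h2)
      · exact iff_of_false (fun h => h2 ((mul_mem_cancel_left h1).1 h)) fun h => h2 (h.1 h1)
      · exact iff_of_false (fun h => h1 ((mul_mem_cancel_right h2).1 h)) fun h => h1 (h.2 h2)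
      · refine iff_of_true ?_ (iff_of_false h1 h2)
        have hout : ∀ y ∈ center X, y ∉ zpowers e → y = f ∨ y = e * f := fun y hy hy' => by
          rcases mem_four (y := y) h4.le c.el he hf he0 hf0 hef hy with h | h | h | h
          · exact absurd (h ▸ one_mem _) hy'
          · exact absurd (h ▸ mem_zpowers e) hy'
          · exact Or.inl h
          · exact Or.inr h
        have hcom : f * e = e * f := mem_center_iff.1 he f
        rcases hout a ha h1 with h | h <;> rcases hout b hb h2 with h' | h' <;> rw [h, h', hmem e he]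
        · exact Or.inl (by rw [← pow_two, c.el f hf])
        · exact Or.inr (by rw [← mul_assoc, hcom, mul_assoc, ← pow_two, c.el f hf, mul_one])
        · exact Or.inr (by rw [mul_assoc, ← pow_two, c.el f hf, mul_one])
        · exact Or.inl (by rw [← pow_two, c.el _ ((center X).mul_mem he hf)])
    have hdeg := Deg.mul (c.deg_two (zpowers e1) (hiff e1 e2 he1 he2 he11 he21 he12))
      (c.deg_two (zpowers e2) (hiff e2 e1 he2 he1 he21 he11 (Ne.symm he12)))
    obtain ⟨v, -, hv1, hv⟩ := Deg.exists_ne_one c.invol hdeg (by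
      have h0 : (1 : X ⧸ center X).out ^ 2 = 1 := by
        rw [← QuotientGroup.mk_one, c.out_sq, one_pow]
      simp [h0, one_mem]) ⊤ (by rw [card_top]; omega)
    obtain ⟨x, rfl⟩ := QuotientGroup.mk'_surjective _ v
    rw [QuotientGroup.mk'_apply] at hv hv1
    simp only [c.out_sq] at hv
    have hm1 : x ^ 2 ∈ zpowers e1 := by by_contra h; exact hv (by rw [if_neg h, zero_mul])
    have hm2 : x ^ 2 ∈ zpowers e2 := by by_contra h; exact hv (by rw [if_neg h, mul_zero])
    have hx2 : x ^ 2 = 1 := by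
      rcases (hmem e1 he1 _).1 hm1 with h | h
      · exact h
      · rcases (hmem e2 he2 _).1 hm2 with h' | h'
        · exact h'
        · exact absurd (h.symm.trans h') he12
    exact hv1 ((QuotientGroup.eq_one_iff x).2 ((hinv x).1 hx2))
  have hcard : Nat.card X = 64 := by
    rw [card_eq_card_quotient_mul_card_subgroup (center X), h4]
    obtain ⟨k, hk⟩ := (c.hyp.two.to_quotient (center X)).exists_card_eq
    rw [hk] at hbig hsmall ⊢
    have h1 : 3 < k := (Nat.pow_lt_pow_iff_right (by norm_num : 1 < 2)).1 (by simpa using hbig)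
    have h2 : k ≤ 4 := (Nat.pow_le_pow_iff_right (by norm_num : 1 < 2)).1 (by simpa using hsmall)
    obtain rfl : k = 4 := by omega
    norm_num
  exact special64_of c.hyp.two (center X) rfl c.com c.sq hinv hcard h4

theorem two_singular (h2 : Nat.card (center X) = 2) (W : Subgroup (X ⧸ center X)) (hW : 4 < Nat.card W) :
    ∃ x : X, (x : X ⧸ center X) ∈ W ∧ (x : X ⧸ center X) ≠ 1 ∧ x ^ 2 = 1 := by
  classical
  haveI := c.comm_quot
  have hbot : ∀ a ∈ center X, ∀ b ∈ center X, (a * b ∈ (⊥ : Subgroup X) ↔ (a ∈ (⊥ : Subgroup X) ↔ b ∈ (⊥ : Subgroup X))) := by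
    intro a ha b hb
    simp only [mem_bot]
    by_cases h1 : a = 1
    · simp [h1]
    by_cases h3 : b = 1
    · simp [h3]
    refine iff_of_true ?_ (iff_of_false h1 h3)
    have hab : a = b := by
      by_contra hne
      have hs : ({1, a, b} : Set X) ⊆ (center X : Set X) := by
        rintro x (rfl | rfl | rfl)
        · exact one_mem _
        · exact ha
        · exact hb
      have := Set.ncard_le_ncard hs (Set.toFinite _)
      rw [Set.ncard_insert_of_notMem (by simp [Ne.symm h1, Ne.symm h3]) (Set.toFinite _), Set.ncard_pair hne,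
        ← Nat.card_coe_set_eq] at this
      change 3 ≤ Nat.card (center X) at this
      omega
    rw [hab, ← pow_two, c.el b hb]
  obtain ⟨v, hv, hv1, hne⟩ := Deg.exists_ne_one c.invol (c.deg_two ⊥ hbot) (by
    have h0 : (1 : X ⧸ center X).out ^ 2 = 1 := by
      rw [← QuotientGroup.mk_one, c.out_sq, one_pow]
    simp [h0]) W (by simpa using hW)
  obtain ⟨x, rfl⟩ := QuotientGroup.mk'_surjective _ v
  rw [QuotientGroup.mk'_apply] at hv hv1 hne
  refine ⟨x, hv, hv1, ?_⟩
  by_contra h
  simp only [c.out_sq, mem_bot, if_neg h, ne_eq, not_true] at hne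

/-- The centraliser modulo the centre of an element. -/
theorem exists_perp (v : X) :
    ∃ C : Subgroup (X ⧸ center X), (∀ w : X, (w : X ⧸ center X) ∈ C ↔ br v w = 1) ∧
      Nat.card (X ⧸ center X) ≤ Nat.card C * Nat.card (center X) := by
  let f : X →* center X :=
    { toFun := fun w => ⟨br v w, c.br_mem v w⟩
      map_one' := Subtype.ext (br_eq_one_iff.2 (by simp))
      map_mul' := fun a b => Subtype.ext (c.br_mul_right v a b) }
  have hZ : center X ≤ f.ker := fun z hz =>
    MonoidHom.mem_ker.2 (Subtype.ext (br_eq_one_iff.2 (mem_center_iff.1 hz v)))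
  let g : X ⧸ center X →* center X := QuotientGroup.lift (center X) f hZ
  refine ⟨g.ker, fun w => ?_, ?_⟩
  · rw [MonoidHom.mem_ker]
    exact Subtype.ext_iff
  · rw [← g.ker.card_mul_index, index_ker]
    exact Nat.mul_le_mul le_rfl (card_le_card_group _)

theorem two_center (h2 : Nat.card (center X) = 2) (hna : ¬ IsMulCommutative X) (hA : A ≠ ⊥) :
    Nonempty (X ≃* QuaternionGroup 2) ∨
      (Cfsg.IsExtraspecial 2 X ∧ Nat.card X = 32 ∧ Nat.card {x : X // orderOf x = 2} = 11) := by
  classical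
  haveI := c.comm_quot
  haveI : Fact (Nat.Prime 2) := ⟨Nat.prime_two⟩
  obtain ⟨k, hk⟩ := (c.hyp.two.to_quotient (center X)).exists_card_eq
  by_cases h4 : Nat.card (X ⧸ center X) ≤ 4
  · left
    refine CfsgLib.QuatEight.main c.hyp.two hna (by rw [c.com, index_eq_card]; exact (c.small h4).2) ?_
    intro hp
    apply hA
    refine Subgroup.eq_bot_of_card_eq A ?_
    obtain ⟨j, hj⟩ := (hp.to_subgroup A).exists_card_eq
    cases j with
    | zero => exact hj
    | succ j =>
      exfalso
      have := c.hyp.odd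
      rw [hj] at this
      exact (Nat.not_even_iff_odd.2 this) (by rw [pow_succ]; exact even_two.mul_left _)
  right
  have h8 := c.ne_eight
  have h16 : 16 ≤ Nat.card (X ⧸ center X) := by
    rw [hk] at h4 h8 ⊢
    rcases Nat.lt_or_ge k 4 with hk' | hk'
    · interval_cases k <;> omega
    · exact (Nat.pow_le_pow_right (by norm_num) hk' : 2 ^ 4 ≤ 2 ^ k)
  obtain ⟨T, -, hT1, hT2⟩ := c.two_singular h2 ⊤ (by rw [card_top]; omega)
  obtain ⟨Ct, hCt, hCtcard⟩ := c.exists_perp T
  rw [h2] at hCtcard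
  have hTC : (T : (X ⧸ center X)) ∈ Ct := (hCt T).2 (br_self T)
  have hle16 : Nat.card (X ⧸ center X) ≤ 16 := by
    by_contra hlt
    have h32 : 32 ≤ Nat.card (X ⧸ center X) := by
      rw [hk] at hlt ⊢
      have : 4 < k := by
        by_contra h'
        have := Nat.pow_le_pow_right (show 0 < 2 by norm_num) (Nat.not_lt.1 h')
        omega
      exact (Nat.pow_le_pow_right (by norm_num) this : 2 ^ 5 ≤ 2 ^ k)
    obtain ⟨W, hWC, hTW, hcov⟩ := exists_avoiding c.invol Ct hTC hT1
    have hsz : Nat.card Ct ≤ Nat.card W + Nat.card W := by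
      have hs : (Ct : Set (X ⧸ center X)) ⊆ (W : Set (X ⧸ center X)) ∪ (fun w => w * (T : (X ⧸ center X))) '' (W : Set (X ⧸ center X)) := fun v hv => by
        rcases hcov v hv with h | h
        · exact Or.inl h
        · exact Or.inr ⟨_, h, by show v * (T : (X ⧸ center X)) * T = v; rw [mul_assoc, c.invol, mul_one]⟩
      have h1 := (Set.ncard_le_ncard hs (Set.toFinite _)).trans (Set.ncard_union_le _ _)
      rw [Set.ncard_image_of_injective _ (mul_left_injective _)] at h1
      simp only [← Nat.card_coe_set_eq] at h1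
      exact h1
    obtain ⟨w, hwW, hw1, hw2⟩ := c.two_singular h2 W (by omega)
    exact c.no_two ((hCt w).1 (hWC hwW)) hT1 hw1 (fun e => hTW (e ▸ hwW)) hT2 hw2
  obtain ⟨z, hz, hz1⟩ : ∃ z ∈ center X, z ≠ 1 := by
    haveI : Nontrivial (center X) := Finite.one_lt_card_iff_nontrivial.1 (by omega)
    obtain ⟨⟨z, hz⟩, hz1⟩ := exists_ne (1 : center X)
    exact ⟨z, hz, fun e => hz1 (Subtype.ext e)⟩
  have hZ2 : ∀ y ∈ center X, y = 1 ∨ y = z := by
    intro y hy
    by_contra hno
    push Not at hno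
    have hs : ({1, z, y} : Set X) ⊆ (center X : Set X) := by
      rintro x (rfl | rfl | rfl)
      · exact one_mem _
      · exact hz
      · exact hy
    have := Set.ncard_le_ncard hs (Set.toFinite _)
    rw [Set.ncard_insert_of_notMem (by simp [Ne.symm hz1, Ne.symm hno.1]) (Set.toFinite _),
      Set.ncard_pair (Ne.symm hno.2), ← Nat.card_coe_set_eq] at this
    change 3 ≤ Nat.card (center X) at this
    omega
  have hnz : ∀ y ∈ center X, y ≠ 1 → y = z := fun y hy hy1 => (hZ2 y hy).resolve_left hy1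
  have hz2 : z * z = 1 := by rw [← pow_two]; exact c.el z hz
  obtain ⟨U, hU, hU2⟩ : ∃ U : X, br U T = z ∧ U ^ 2 = 1 := by
    obtain ⟨U0, hU0⟩ : ∃ U0 : X, br U0 T ≠ 1 := by
      by_contra hno
      push Not at hno
      exact hT1 ((QuotientGroup.eq_one_iff T).2 (mem_center_iff.2 fun g => br_eq_one_iff.1 (hno g)))
    have hU0z := hnz _ (c.br_mem _ _) hU0
    rcases hZ2 _ (c.sq U0) with h | h
    · exact ⟨U0, hU0z, h⟩
    · refine ⟨U0 * T, by rw [c.br_mul, br_self, mul_one, hU0z], ?_⟩
      rw [c.sq_mul, c.br_comm U0 T, hU0z, h, hT2, mul_one, hz2]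
  obtain ⟨Cu, hCu, hCucard⟩ := c.exists_perp U
  rw [h2] at hCucard
  set W := Ct ⊓ Cu with hW
  have hWcard : 4 ≤ Nat.card W := by
    have h1 := index_inf_le (H := Ct) (K := Cu)
    have e1 := Ct.card_mul_index
    have e2 := Cu.card_mul_index
    have e3 := W.card_mul_index
    have hposT := Nat.card_pos (α := Ct)
    have hposU := Nat.card_pos (α := Cu)
    have hti : Ct.index ≤ 2 := by nlinarith
    have hui : Cu.index ≤ 2 := by nlinarith
    have : W.index ≤ 4 := h1.trans (by
      calc Ct.index * Cu.index ≤ 2 * 2 := Nat.mul_le_mul hti hui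
        _ = 4 := by norm_num)
    nlinarith
  have hWmem : ∀ w : X, (w : (X ⧸ center X)) ∈ W → br T w = 1 ∧ br U w = 1 := fun w hw =>
    ⟨(hCt w).1 hw.1, (hCu w).1 hw.2⟩
  have hTW : (T : (X ⧸ center X)) ∉ W := fun h => hz1 (hU.symm.trans ((hWmem T h).2))
  have hWq : ∀ w : X, (w : (X ⧸ center X)) ∈ W → (w : (X ⧸ center X)) ≠ 1 → w ^ 2 = z := by
    intro w hw hw1
    refine hnz _ (c.sq w) fun hw2 => ?_
    exact c.no_two (hWmem w hw).1 hT1 hw1 (fun e => hTW (e ▸ hw)) hT2 hw2
  haveI : Nontrivial W := Finite.one_lt_card_iff_nontrivial.1 (by omega)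
  obtain ⟨⟨c', hc'⟩, hc1⟩ := exists_ne (1 : W)
  obtain ⟨C, rfl⟩ := QuotientGroup.mk'_surjective _ c'
  rw [QuotientGroup.mk'_apply] at hc'
  have hC1 : (C : (X ⧸ center X)) ≠ 1 := fun e => hc1 (Subtype.ext e)
  obtain ⟨d', hd', hd1, hdC⟩ : ∃ d ∈ W, d ≠ 1 ∧ d ≠ (C : (X ⧸ center X)) := by
    by_contra hno
    push Not at hno
    have hs : (W : Set (X ⧸ center X)) ⊆ {1, (C : (X ⧸ center X))} := fun w hw => by
      by_cases hw1 : w = 1
      · exact Or.inl hw1
      · exact Or.inr (hno w hw hw1)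
    have := Set.ncard_le_ncard hs (Set.toFinite _)
    rw [Set.ncard_pair (Ne.symm hC1), ← Nat.card_coe_set_eq] at this
    change Nat.card W ≤ 2 at this
    omega
  obtain ⟨D, rfl⟩ := QuotientGroup.mk'_surjective _ d'
  rw [QuotientGroup.mk'_apply] at hd' hd1 hdC
  have hCq := hWq C hc' hC1
  have hDq := hWq D hd' hd1
  have hCD : br D C = z := by
    have hne : ((C * D : X) : (X ⧸ center X)) ≠ 1 := fun e => hdC (by
      have e' : (C : (X ⧸ center X)) * D = 1 := e
      rw [← one_mul (D : (X ⧸ center X)), ← c.invol (C : (X ⧸ center X)), mul_assoc, e', mul_one])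
    have h1 := hWq (C * D) (W.mul_mem hc' hd') hne
    rw [c.sq_mul, hCq, hDq, hz2, mul_one] at h1
    exact h1
  obtain ⟨hTC', hUC'⟩ := hWmem C hc'
  obtain ⟨hTD, hUD⟩ := hWmem D hd'
  let g : Fin 2 × Fin 2 × Fin 2 × Fin 2 × Fin 2 → X := fun s =>
    z ^ s.1.val * T ^ s.2.1.val * U ^ s.2.2.1.val * C ^ s.2.2.2.1.val * D ^ s.2.2.2.2.val
  have brg : ∀ s w, br (g s) w =
      br T w ^ s.2.1.val * br U w ^ s.2.2.1.val * br C w ^ s.2.2.2.1.val * br D w ^ s.2.2.2.2.val := by
    intro s w
    simp only [g, c.br_mul, c.br_pow_left, br_center_left hz, one_pow, one_mul]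
  have hbrs : ∀ s, br (g s) T = z ^ s.2.2.1.val ∧ br (g s) U = z ^ s.2.1.val ∧
      br (g s) C = z ^ s.2.2.2.2.val ∧ br (g s) D = z ^ s.2.2.2.1.val := by
    intro s
    refine ⟨?_, ?_, ?_, ?_⟩ <;> rw [brg]
    · rw [br_self, hU, c.br_comm T C, hTC', c.br_comm T D, hTD]; simp
    · rw [c.br_comm U T, hU, br_self, c.br_comm U C, hUC', c.br_comm U D, hUD]; simp
    · rw [hTC', hUC', br_self, hCD]; simp
    · rw [hTD, hUD, br_self, c.br_comm D C, hCD]; simp
  have hzinj : ∀ i j : Fin 2, z ^ i.val = z ^ j.val → i = j := by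
    intro i j e
    fin_cases i <;> fin_cases j <;> simp_all
  have ginj : Function.Injective g := by
    intro s t e
    obtain ⟨s1, s2, s3, s4⟩ := hbrs s
    obtain ⟨t1, t2, t3, t4⟩ := hbrs t
    rw [e] at s1 s2 s3 s4
    have h3 := hzinj _ _ (s1.symm.trans t1)
    have h2' := hzinj _ _ (s2.symm.trans t2)
    have h5 := hzinj _ _ (s3.symm.trans t3)
    have h4' := hzinj _ _ (s4.symm.trans t4)
    obtain ⟨a, b, d, f, h⟩ := s
    obtain ⟨a', b', d', f', h'⟩ := t
    simp only at h2' h3 h4' h5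
    subst h2' h3 h4' h5
    have : z ^ a.val = z ^ a'.val := by
      simp only [g, mul_left_inj] at e
      exact e
    rw [hzinj _ _ this]
  have hV16 : Nat.card (X ⧸ center X) = 16 := le_antisymm hle16 h16
  have hcard : Nat.card X = 32 := by
    rw [card_eq_card_quotient_mul_card_subgroup (center X), h2, hV16]
  have gbij : Function.Bijective g := by
    rw [Nat.bijective_iff_injective_and_card]
    exact ⟨ginj, by rw [hcard]; simp⟩
  have hsqg : ∀ s, g s ^ 2 =
      z ^ (s.2.1.val * s.2.2.1.val + s.2.2.2.1.val + s.2.2.2.2.val + s.2.2.2.1.val * s.2.2.2.2.val) := by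
    intro s
    have p1 : ∀ (y : X) (n : ℕ), y ^ 2 = 1 → (y ^ n) ^ 2 = 1 := fun y n hy => by
      rw [← pow_mul, mul_comm, pow_mul, hy, one_pow]
    have p2 : ∀ (y : X) (n : ℕ), y ^ 2 = z → (y ^ n) ^ 2 = z ^ n := fun y n hy => by
      rw [← pow_mul, mul_comm, pow_mul, hy]
    have bTz : ∀ w n, br w (z ^ n) = 1 := fun w n => br_eq_one_iff.2 (mem_center_iff.1 ((center X).pow_mem hz n) w)
    have bpr : ∀ x w n, br x (w ^ n) = br x w ^ n := fun x w n => by
      rw [c.br_comm (w ^ n) x, c.br_pow_left, c.br_comm w x]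
    simp only [g, c.sq_mul, c.br_mul_right, c.br_pow_left, bpr, bTz, p1 z _ (c.el z hz), p1 T _ hT2, p1 U _ hU2,
      p2 C _ hCq, p2 D _ hDq, hU, hCD, c.br_comm T C, hTC', c.br_comm U C, hUC', c.br_comm T D, hTD,
      c.br_comm U D, hUD, br_center_left hz, br_eq_one_iff.2 (mem_center_iff.1 hz T),
      br_eq_one_iff.2 (mem_center_iff.1 hz U), br_eq_one_iff.2 (mem_center_iff.1 hz C),
      br_eq_one_iff.2 (mem_center_iff.1 hz D), one_pow, one_mul, mul_one, ← pow_mul, ← pow_add]
    congr 1
    ring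
  have hord : ∀ s, orderOf (g s) = 2 ↔
      (s.2.1.val * s.2.2.1.val + s.2.2.2.1.val + s.2.2.2.2.val + s.2.2.2.1.val * s.2.2.2.2.val) % 2 = 0 ∧
        s ≠ (0, 0, 0, 0, 0) := by
    intro s
    have hz0 : orderOf z = 2 := orderOf_eq_prime_iff.2 ⟨c.el z hz, hz1⟩
    have hg0 : g (0, 0, 0, 0, 0) = 1 := by simp [g]
    rw [orderOf_eq_prime_iff, hsqg, ← orderOf_dvd_iff_pow_eq_one, hz0, ← Nat.dvd_iff_mod_eq_zero]
    exact and_congr Iff.rfl ⟨fun h e => h (e ▸ hg0), fun h e => h (ginj (e.trans hg0.symm))⟩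
  refine ⟨⟨c.is_special, h2⟩, hcard, ?_⟩
  rw [← Nat.card_congr (Equiv.subtypeEquiv (Equiv.ofBijective g gbij) fun s => (hord s).symm),
    Nat.card_eq_fintype_card]
  decide

end C2

theorem classify (h : Hyp A) (hna : ¬ IsMulCommutative X) :
    Nonempty (X ≃* QuaternionGroup 2) ∨ Special64 X ∨
      (Cfsg.IsExtraspecial 2 X ∧ Nat.card X = 32 ∧ Nat.card {x : X // orderOf x = 2} = 11) := by
  classical
  by_cases hall : ∀ N, AbN A N → N ≤ center X
  · have hna' : ∃ x y : X, x * y ≠ y * x := by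
      by_contra hno
      push Not at hno
      exact hna ⟨⟨hno⟩⟩
    have c := c2_of h hna' hall
    rcases c.card_center with h2 | h4
    · have hA : A ≠ ⊥ := fun hb => by
        have hg := h.gens
        have hle : closure {g : X | ∃ φ ∈ A, ∃ x : X, g = x⁻¹ * φ x} ≤ ⊥ := (closure_le _).2 (by
          rintro g ⟨φ, hφ, x, rfl⟩
          rw [hb, mem_bot] at hφ
          simp [hφ])
        rw [hg, top_le_iff] at hle
        obtain ⟨x, y, hxy⟩ := hna'
        have hx : x = 1 := mem_bot.1 (hle ▸ mem_top x)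
        exact hxy (by simp [hx])
      rcases c.two_center h2 hna hA with hq | he
      · exact Or.inl hq
      · exact Or.inr (Or.inr he)
    · exact Or.inr (Or.inl (c.four_le h4))
  · push Not at hall
    obtain ⟨N0, hN0, hN0c⟩ := hall
    obtain ⟨M, ⟨hM, hMc⟩, hmax⟩ := Set.exists_max_image {M : Subgroup X | AbN A M ∧ ¬ M ≤ center X}
      (fun M => Nat.card M) (Set.toFinite _) ⟨N0, hN0, hN0c⟩
    refine Or.inr (Or.inl (noncentral h hM hMc fun N hN hle => ?_))
    exact (eq_of_le_of_card_ge hle (hmax N ⟨hN, fun hc => hMc (hle.trans hc)⟩)).symm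

end CfsgLib.ScnThree
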