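import Cfsg.Prelude.Def_Transfer
import Cfsg.Agent.ScnThree.Module

/-!
Two-groups acted on by odd order automorphism groups with `[X, A] = X` and without normal abelian
subgroups of rank three: basic lemmas.
-/

set_option autoImplicit false
set_option linter.style.haveILetI false

namespace CfsgLib.ScnThree

open Subgroup Cfsg
open scoped IsMulCommutative

variable {X : Type*} [Group X] [Finite X]

/-- The standing hypotheses. -/
structure Hyp (A : Subgroup (MulAut X)) : Prop where
  two : IsPGroup 2 X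
  odd : Odd (Nat.card A)
  gens : closure {g : X | ∃ φ ∈ A, ∃ x : X, g = x⁻¹ * φ x} = ⊤
  no8 : ∀ M : Subgroup X, M.Normal → (∀ a ∈ M, ∀ b ∈ M, a * b = b * a) →
    ∀ E ≤ M, IsElementaryAbelian 2 E → Nat.card E ≠ 8

/-- An invariant normal abelian subgroup. -/
structure AbN (A : Subgroup (MulAut X)) (M : Subgroup X) : Prop where
  nrm : M.Normal
  inv : ∀ a ∈ A, ∀ x ∈ M, a x ∈ M
  comm : ∀ a ∈ M, ∀ b ∈ M, a * b = b * a

variable {A : Subgroup (MulAut X)}

namespace Hyp

variable (h : Hyp A)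
include h

theorem hom_trivial {H : Type*} [Group H] (f : X →* H) (hf : ∀ a ∈ A, ∀ x, f (a x) = f x) (x : X) :
    f x = 1 := by
  have hle : closure {g : X | ∃ φ ∈ A, ∃ y : X, g = y⁻¹ * φ y} ≤ f.ker := by
    rw [closure_le]
    rintro g ⟨φ, hφ, y, rfl⟩
    rw [SetLike.mem_coe, MonoidHom.mem_ker, map_mul, map_inv, hf φ hφ, inv_mul_cancel]
  rw [h.gens] at hle
  exact hle (mem_top x)

theorem pow_card {a : MulAut X} (ha : a ∈ A) : a ^ Nat.card A = 1 :=
  congrArg Subtype.val (pow_card_eq_one' (x := (⟨a, ha⟩ : A)))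

theorem odd_two {a : MulAut X} (ha : a ∈ A) {x : X} (hx : a (a x) = x) : a x = x := by
  obtain ⟨k, hk⟩ := h.odd
  have key : ∀ j : ℕ, (a ^ (2 * j)) x = x := fun j => by
    induction j with
    | zero => rfl
    | succ j ih => rw [Nat.mul_succ, pow_add, MulAut.mul_apply, pow_two, MulAut.mul_apply, hx, ih]
  calc a x = (a ^ (2 * k + 1)) x := by rw [pow_succ', MulAut.mul_apply, key]
    _ = x := by rw [← hk, h.pow_card ha]; rfl

theorem fixed_mem (N : Subgroup X) [N.Normal] (hinv : ∀ a ∈ A, ∀ x ∈ N, a x ∈ N)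
    (hc : commutator X ≤ N) {x : X} (hx : ∀ a ∈ A, a x = x) : x ∈ N := by
  classical
  haveI : Fintype A := Fintype.ofFinite _
  haveI hcomm : IsMulCommutative (X ⧸ N) := Normal.quotient_commutative_iff_commutator_le.2 hc
  let mk : X →* X ⧸ N := QuotientGroup.mk' N
  let f : X →* X ⧸ N :=
    { toFun := fun y => ∏ a : A, mk ((a : MulAut X) y)
      map_one' := by simp
      map_mul' := fun y z => by simp only [map_mul, Finset.prod_mul_distrib] }
  have hf : ∀ b ∈ A, ∀ y, f (b y) = f y := fun b hb y =>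
    Fintype.prod_equiv (Equiv.mulRight (⟨b, hb⟩ : A)) _ _ fun a => rfl
  have h1 := h.hom_trivial f hf x
  have h2 : mk x ^ Nat.card A = 1 := by
    rw [← h1]
    show _ = ∏ a : A, mk ((a : MulAut X) x)
    rw [Finset.prod_congr rfl (fun a _ => by rw [hx a a.2]), Finset.prod_const, Finset.card_univ,
      Nat.card_eq_fintype_card]
  obtain ⟨k, hk⟩ := (h.two.to_quotient N) (mk x)
  have hord : orderOf (mk x) = 1 := by
    refine Nat.dvd_one.1 ?_
    have hcop : Nat.Coprime (Nat.card A) (2 ^ k) :=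
      Nat.Coprime.pow_right k ((Nat.coprime_two_right).2 h.odd)
    exact hcop ▸ Nat.dvd_gcd (orderOf_dvd_of_pow_eq_one h2) (orderOf_dvd_of_pow_eq_one hk)
  exact (QuotientGroup.eq_one_iff x).1 (orderOf_eq_one_iff.1 hord)

theorem no_elem {N : Subgroup X} (hN : N.Normal) (hc : ∀ a ∈ N, ∀ b ∈ N, a * b = b * a)
    (hsq : ∀ a ∈ N, a ^ 2 = 1) : Nat.card N ≤ 4 := by
  haveI : Fact (Nat.Prime 2) := ⟨Nat.prime_two⟩
  by_contra hlt
  obtain ⟨k, hk⟩ := (h.two.to_subgroup N).exists_card_eq
  have h3 : 3 ≤ k := by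
    by_contra h3
    have : 2 ^ k ≤ 2 ^ 2 := Nat.pow_le_pow_right (by norm_num) (by omega)
    omega
  obtain ⟨E, hE⟩ := Sylow.exists_subgroup_card_pow_prime (G := N) 2 (n := 3)
    (hk ▸ pow_dvd_pow 2 h3)
  refine h.no8 N hN hc (E.map N.subtype) (Subgroup.map_subtype_le E) ⟨⟨⟨?_⟩⟩, ?_⟩ ?_
  · rintro ⟨a, ha⟩ ⟨b, hb⟩
    exact Subtype.ext (hc a (Subgroup.map_subtype_le E ha) b (Subgroup.map_subtype_le E hb))
  · exact fun a ha => hsq a (Subgroup.map_subtype_le E ha)
  · rw [Nat.card_congr (E.equivMapOfInjective _ N.subtype_injective).symm.toEquiv, hE]; norm_num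

/-- An involution central modulo a central four-group lies in it. -/
theorem mem_of_four {E : Subgroup X} (hE : E ≤ center X) (hE2 : ∀ e ∈ E, e ^ 2 = 1)
    (hE4 : Nat.card E = 4) {v : X} (hv : v ^ 2 = 1) (hvX : ∀ y, v * y * v⁻¹ * y⁻¹ ∈ E) : v ∈ E := by
  by_contra hvE
  set N := E ⊔ zpowers v with hN
  haveI : E.Normal := ⟨fun e he g => by
    rw [mem_center_iff.1 (hE he) g, mul_inv_cancel_right]; exact he⟩
  have hmem : ∀ a, a ∈ N ↔ ∃ e ∈ E, a = e ∨ a = e * v := fun a => by
    constructor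
    · intro ha
      obtain ⟨e, he, w, hw, rfl⟩ := mem_sup_of_normal_left.1 ha
      obtain ⟨i, rfl⟩ := mem_zpowers_iff.1 hw
      refine ⟨e, he, ?_⟩
      rcases Int.even_or_odd i with ⟨j, rfl⟩ | ⟨j, rfl⟩
      · left; rw [← two_mul, zpow_mul, zpow_two, ← pow_two, hv, one_zpow, mul_one]
      · right; rw [zpow_add, zpow_mul, zpow_two, ← pow_two, hv, one_zpow, one_mul, zpow_one]
    · rintro ⟨e, he, rfl | rfl⟩
      · exact mem_sup_left he
      · exact mul_mem (mem_sup_left he) (mem_sup_right (mem_zpowers v))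
  have hcv : ∀ e ∈ E, v * e = e * v := fun e he => (mem_center_iff.1 (hE he) v)
  have hcomm : ∀ a ∈ N, ∀ b ∈ N, a * b = b * a := by
    intro a ha b hb
    obtain ⟨e, he, ha'⟩ := (hmem a).1 ha
    obtain ⟨f, hf, hb'⟩ := (hmem b).1 hb
    have c1 : Commute e f := mem_center_iff.1 (hE hf) e
    have c2 : Commute e v := (hcv e he).symm
    have c3 : Commute v f := hcv f hf
    rcases ha' with rfl | rfl <;> rcases hb' with rfl | rfl
    · exact c1
    · exact c1.mul_right c2
    · exact c1.mul_left c3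
    · exact (c1.mul_right c2).mul_left (c3.mul_right (Commute.refl v))
  have hsq : ∀ a ∈ N, a ^ 2 = 1 := by
    intro a ha
    obtain ⟨e, he, rfl | rfl⟩ := (hmem a).1 ha
    · exact hE2 _ he
    · rw [Commute.mul_pow (hcv e he).symm, hv, hE2 e he, one_mul]
  have hnorm : N.Normal := ⟨fun a ha g => by
    obtain ⟨e, he, rfl | rfl⟩ := (hmem a).1 ha
    · rw [mem_center_iff.1 (hE he) g, mul_inv_cancel_right]; exact ha
    · have h1 := E.mul_mem he (E.inv_mem (hvX g))
      have h2 : g * (e * v) * g⁻¹ = e * (v * g * v⁻¹ * g⁻¹)⁻¹ * v := by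
        rw [← mul_assoc g e v, mem_center_iff.1 (hE he) g]; group
      rw [h2]
      exact (hmem _).2 ⟨_, h1, Or.inr rfl⟩⟩
  have hle := h.no_elem hnorm hcomm hsq
  have heq : E = N := eq_of_le_of_card_ge le_sup_left (by omega)
  exact hvE (heq ▸ mem_sup_right (mem_zpowers v))

end Hyp

theorem mem_four {G : Type*} [Group G] [Finite G] {E : Subgroup G} (h4 : Nat.card E ≤ 4)
    (hsq : ∀ e ∈ E, e ^ 2 = 1) {a b y : G} (ha : a ∈ E) (hb : b ∈ E) (ha1 : a ≠ 1) (hb1 : b ≠ 1)
    (hab : a ≠ b) (hy : y ∈ E) : y = 1 ∨ y = a ∨ y = b ∨ y = a * b := by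
  classical
  have hab1 : a * b ≠ 1 := fun e => hab (by
    rw [mul_eq_one_iff_eq_inv.1 e, inv_eq_iff_mul_eq_one, ← pow_two, hsq b hb])
  have hne1 : a * b ≠ a := fun e => hb1 (mul_eq_left.1 e)
  have hne2 : a * b ≠ b := fun e => ha1 (mul_eq_right.1 e)
  by_contra hne
  push Not at hne
  obtain ⟨h1, h2, h3, h4'⟩ := hne
  have hcard : ({1, a, b, a * b, y} : Finset G).card = 5 := by
    rw [Finset.card_insert_of_notMem, Finset.card_insert_of_notMem, Finset.card_insert_of_notMem,
      Finset.card_insert_of_notMem, Finset.card_singleton]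
    · rw [Finset.mem_singleton]; exact Ne.symm h4'
    · simp only [Finset.mem_insert, Finset.mem_singleton, not_or]
      exact ⟨Ne.symm hne2, Ne.symm h3⟩
    · simp only [Finset.mem_insert, Finset.mem_singleton, not_or]
      exact ⟨hab, Ne.symm hne1, Ne.symm h2⟩
    · simp only [Finset.mem_insert, Finset.mem_singleton, not_or]
      exact ⟨ha1.symm, hb1.symm, hab1.symm, Ne.symm h1⟩
  have hle : ({1, a, b, a * b, y} : Finset G).card ≤ Nat.card E := by
    rw [← Nat.card_eq_finsetCard]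
    refine Nat.card_le_card_of_injective (fun z => (⟨z.1, ?_⟩ : E)) fun u v e =>
      Subtype.ext (id (congrArg Subtype.val e :))
    have hz := z.2
    simp only [Finset.mem_insert, Finset.mem_singleton] at hz
    rcases hz with e | e | e | e | e <;> rw [e] <;>
      first | exact E.one_mem | assumption | exact E.mul_mem ha hb
  omega

/-- The elements of an abelian subgroup killed by two. -/
def Om (M : Subgroup X) : Subgroup X := closure {x | x ∈ M ∧ x ^ 2 = 1}

namespace AbN

variable {M : Subgroup X} (hM : AbN A M)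
include hM

theorem mem_om {x : X} : x ∈ Om M ↔ x ∈ M ∧ x ^ 2 = 1 := by
  refine ⟨fun hx => ?_, fun hx => subset_closure hx⟩
  induction hx using closure_induction with
  | mem x hx => exact hx
  | one => exact ⟨M.one_mem, one_pow 2⟩
  | mul x y _ _ hx hy =>
    exact ⟨M.mul_mem hx.1 hy.1,
      by rw [Commute.mul_pow (hM.comm x hx.1 y hy.1), hx.2, hy.2, one_mul]⟩
  | inv x _ hx => exact ⟨M.inv_mem hx.1, by rw [inv_pow, hx.2, inv_one]⟩

theorem om_abn : AbN A (Om M) where
  nrm := ⟨fun x hx g => hM.mem_om.2 ⟨hM.nrm.conj_mem x (hM.mem_om.1 hx).1 g, by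
    rw [conj_pow, (hM.mem_om.1 hx).2, mul_one, mul_inv_cancel]⟩⟩
  inv := fun a ha x hx => hM.mem_om.2 ⟨hM.inv a ha x (hM.mem_om.1 hx).1, by
    rw [← map_pow, (hM.mem_om.1 hx).2, map_one]⟩
  comm := fun a ha b hb => hM.comm a (hM.mem_om.1 ha).1 b (hM.mem_om.1 hb).1

theorem om_le_four (h : Hyp A) : Nat.card (Om M) ≤ 4 :=
  h.no_elem hM.om_abn.nrm hM.om_abn.comm fun _ ha => (hM.mem_om.1 ha).2

theorem om_central (h : Hyp A) : Om M ≤ center X := by
  by_contra hnc
  obtain ⟨e, heO, heZ⟩ := SetLike.not_le_iff_exists.1 hnc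
  haveI := hM.om_abn.nrm
  haveI := h.two.isNilpotent
  have hne : Om M ≠ ⊥ := fun hb => heZ (by rw [hb, mem_bot] at heO; rw [heO]; exact one_mem _)
  obtain ⟨z, hz, hz1⟩ : ∃ z ∈ Om M ⊓ center X, z ≠ 1 := by
    haveI : Fact (Nat.Prime 2) := ⟨Nat.prime_two⟩
    haveI := ((Om M).nontrivial_iff_ne_bot).2 hne
    obtain ⟨k, hk⟩ := (h.two.to_subgroup (Om M)).exists_card_eq
    have hpos : 2 ∣ Nat.card (Om M) := by
      rw [hk]
      refine dvd_pow_self 2 fun h0 => ?_
      rw [h0, pow_zero] at hk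
      exact (Finite.one_lt_card (α := Om M)).ne' hk
    have hone : (1 : Om M) ∈ MulAction.fixedPoints (ConjAct X) (Om M) := fun g => smul_one g
    obtain ⟨b, hb, hb1⟩ := IsPGroup.exists_fixed_point_of_prime_dvd_card_of_fixed_point
      (p := 2) (G := ConjAct X) (fun g => h.two (ConjAct.ofConjAct g)) (Om M) hpos hone
    refine ⟨b, ⟨b.2, mem_center_iff.2 fun g => ?_⟩, fun e1 => hb1 (Subtype.ext e1.symm)⟩
    have := congrArg Subtype.val (hb (ConjAct.toConjAct g))
    rw [ConjAct.Subgroup.val_conj_smul, ConjAct.smul_def, ConjAct.ofConjAct_toConjAct] at this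
    exact mul_inv_eq_iff_eq_mul.1 this
  have hsq : ∀ x ∈ Om M, x ^ 2 = 1 := fun x hx => (hM.mem_om.1 hx).2
  have hzZ : ∀ x, x * z = z * x := fun x => mem_center_iff.1 hz.2 x
  have hze : z ≠ e := fun e' => heZ (e' ▸ hz.2)
  have he1 : e ≠ 1 := fun e' => heZ (e' ▸ one_mem _)
  have four : ∀ y ∈ Om M, y = 1 ∨ y = z ∨ y = e ∨ y = z * e := fun y hy =>
    mem_four (hM.om_le_four h) hsq hz.1 heO hz1 he1 hze hy
  -- the only central elements are `1` and `z`
  have hcent : ∀ y ∈ Om M, y ∈ center X → y = 1 ∨ y = z := fun y hy hyc => by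
    rcases four y hy with e' | e' | e' | e'
    · exact Or.inl e'
    · exact Or.inr e'
    · exact absurd (e' ▸ hyc) heZ
    · rw [e'] at hyc
      have := (center X).mul_mem ((center X).inv_mem hz.2) hyc
      rw [inv_mul_cancel_left] at this
      exact absurd this heZ
  have hout : ∀ y ∈ Om M, y ∉ center X → y = e ∨ y = z * e := fun y hy hyc => by
    rcases four y hy with e' | e' | e' | e'
    · exact absurd (e' ▸ one_mem _) hyc
    · exact absurd (e' ▸ hz.2) hyc
    · exact Or.inl e'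
    · exact Or.inr e'
  have hconjc : ∀ x, x * e * x⁻¹ ∉ center X := fun x hx => heZ (by
    have h1 := mem_center_iff.1 hx x
    have h2 : x * e * x⁻¹ = e := by
      rw [← mul_assoc, ← mul_assoc] at h1
      calc x * e * x⁻¹ = x⁻¹ * (x * x * e * x⁻¹) := by group
        _ = x⁻¹ * (x * e * x⁻¹ * x) := by rw [h1]
        _ = e := by group
    exact h2 ▸ hx)
  have hg : ∀ x, x * e * x⁻¹ * e⁻¹ ∈ center X := fun x => by
    rcases hout _ ((hM.om_abn.nrm).conj_mem e heO x) (hconjc x) with e' | e' <;> rw [e']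
    · rw [mul_inv_cancel]; exact one_mem _
    · rw [mul_inv_cancel_right]; exact hz.2
  let f : X →* center X :=
    { toFun := fun x => ⟨x * e * x⁻¹ * e⁻¹, hg x⟩
      map_one' := Subtype.ext (by simp)
      map_mul' := fun x y => Subtype.ext (by
        show x * y * e * (x * y)⁻¹ * e⁻¹ = x * e * x⁻¹ * e⁻¹ * (y * e * y⁻¹ * e⁻¹)
        have hc := mem_center_iff.1 (hg y) x
        calc x * y * e * (x * y)⁻¹ * e⁻¹ = (x * (y * e * y⁻¹ * e⁻¹)) * e * x⁻¹ * e⁻¹ := by group
          _ = _ := by rw [hc, mem_center_iff.1 (hg y) (x * e * x⁻¹ * e⁻¹)]; group) }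
  have hinv : ∀ a ∈ A, ∀ x, f (a x) = f x := fun a ha x => by
    have hmap : ∀ y ∈ center X, a y ∈ center X := fun y hy => mem_center_iff.2 fun g => by
      obtain ⟨g, rfl⟩ := a.surjective g
      rw [← map_mul, mem_center_iff.1 hy, map_mul]
    have hzf : a z = z := by
      rcases hcent (a z) (hM.om_abn.inv a ha z hz.1) (hmap z hz.2) with e' | e'
      · exact absurd (a.map_eq_one_iff.1 e') hz1
      · exact e'
    have hfix : a (x * e * x⁻¹ * e⁻¹) = x * e * x⁻¹ * e⁻¹ := by
      have hm : x * e * x⁻¹ * e⁻¹ ∈ Om M :=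
        mul_mem (hM.om_abn.nrm.conj_mem e heO x) (inv_mem heO)
      rcases hcent _ hm (hg x) with e' | e' <;> rw [e']
      · rw [map_one]
      · exact hzf
    apply Subtype.ext
    show a x * e * (a x)⁻¹ * e⁻¹ = x * e * x⁻¹ * e⁻¹
    conv_rhs => rw [← hfix]
    simp only [map_mul, map_inv]
    have hae : a e ∉ center X := fun hc => heZ (mem_center_iff.2 fun g => a.injective (by
      rw [map_mul, map_mul, mem_center_iff.1 hc]))
    rcases hout _ (hM.om_abn.inv a ha e heO) hae with e' | e' <;> rw [e']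
    rw [← mul_assoc (a x) z e, hzZ, mul_inv_rev,
      show z * a x * e * (a x)⁻¹ * (e⁻¹ * z⁻¹) = z * (a x * e * (a x)⁻¹ * e⁻¹) * z⁻¹ by group,
      ← hzZ, mul_inv_cancel_right]
  refine heZ (mem_center_iff.2 fun g => ?_)
  exact mul_inv_eq_iff_eq_mul.1 (mul_inv_eq_one.1 (congrArg Subtype.val (h.hom_trivial f hinv g)))

/-- A non-central invariant normal abelian subgroup is moved by the automorphisms. -/
theorem exists_moved (h : Hyp A) (hnc : ¬ M ≤ center X) : ∃ a ∈ A, ∃ m ∈ M, a m ≠ m := by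
  by_contra hno
  push Not at hno
  haveI := hM.nrm
  have h1 := h.hom_trivial (MulAut.conjNormal (H := M)) fun a ha x => by
    refine MulEquiv.ext fun m => Subtype.ext ?_
    rw [MulAut.conjNormal_apply, MulAut.conjNormal_apply]
    conv_lhs => rw [← hno a ha m.1 m.2, ← map_inv, ← map_mul, ← map_mul]
    exact hno a ha _ (hM.nrm.conj_mem _ m.2 x)
  refine hnc fun m hm => mem_center_iff.2 fun g => ?_
  have := congrArg Subtype.val (DFunLike.congr_fun (h1 g) ⟨m, hm⟩)
  rw [MulAut.conjNormal_apply] at this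
  exact mul_inv_eq_iff_eq_mul.1 this

/-- An automorphism fixing the involutions fixes everything. -/
theorem fix_of_om (h : Hyp A) {a : MulAut X} (ha : a ∈ A) (hom : ∀ e ∈ Om M, a e = e) {m : X}
    (hm : m ∈ M) : a m = m := by
  obtain ⟨k, hk⟩ := h.two m
  induction k generalizing m with
  | zero => rw [pow_zero, pow_one] at hk; rw [hk, map_one]
  | succ k ih =>
    have h2 := ih (M.pow_mem hm 2) (by rw [← pow_mul, ← pow_succ']; exact hk)
    set d := a m * m⁻¹ with hd
    have hdO : d ∈ Om M := hM.mem_om.2 ⟨M.mul_mem (hM.inv a ha m hm) (M.inv_mem hm), by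
      rw [hd, Commute.mul_pow (hM.comm _ (hM.inv a ha m hm) _ (M.inv_mem hm)), ← map_pow, h2,
        inv_pow, mul_inv_cancel]⟩
    have key : ∀ j : ℕ, (a ^ j) m = d ^ j * m := fun j => by
      induction j with
      | zero => simp
      | succ j ihj =>
        rw [pow_succ', MulAut.mul_apply, ihj, map_mul, map_pow, hom d hdO, pow_succ, mul_assoc]
        congr 1
        rw [hd, inv_mul_cancel_right]
    have h3 := key (Nat.card A)
    rw [h.pow_card ha] at h3
    obtain ⟨l, hl⟩ := h.odd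
    rw [hl, pow_succ, pow_mul, (hM.mem_om.1 hdO).2, one_pow, one_mul, hd, inv_mul_cancel_right] at h3
    exact h3.symm

end AbN

/-- `φ` rotates the invariant subgroup `M`, and every element of `A` acts on it as a power of `φ`. -/
structure RotX (A : Subgroup (MulAut X)) (M : Subgroup X) (φ : MulAut X) : Prop where
  mem : φ ∈ A
  cube : ∀ m ∈ M, φ (φ (φ m)) = m
  fixed : ∀ m ∈ M, φ m = m → m = 1
  om4 : ∀ e ∈ Om M, e ≠ 1 → ∀ y ∈ Om M, y = 1 ∨ y = e ∨ y = φ e ∨ y = φ (φ e)
  pow : ∀ a ∈ A, (∀ m ∈ M, a m = m) ∨ (∀ m ∈ M, a m = φ m) ∨ (∀ m ∈ M, a m = φ (φ m))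
  card_om : Nat.card (Om M) = 4

theorem AbN.exists_rot {M : Subgroup X} (hM : AbN A M) (h : Hyp A)
    (hmv : ∃ a ∈ A, ∃ m ∈ M, a m ≠ m) : ∃ φ, RotX A M φ := by
  classical
  obtain ⟨φ, hφ, m₀, hm₀, hne⟩ := hmv
  obtain ⟨e, he, hee⟩ : ∃ e ∈ Om M, φ e ≠ e := by
    by_contra hno
    push Not at hno
    exact hne (hM.fix_of_om h hφ hno hm₀)
  have hsq : ∀ x ∈ Om M, x ^ 2 = 1 := fun x hx => (hM.mem_om.1 hx).2
  have hin : ∀ a ∈ A, ∀ x ∈ Om M, a x ∈ Om M := hM.om_abn.inv
  have he1 : e ≠ 1 := fun e' => hee (by rw [e', map_one])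
  have hf := hin φ hφ e he
  have hf1 : φ e ≠ 1 := fun e' => he1 (φ.map_eq_one_iff.1 e')
  have four : ∀ y ∈ Om M, y = 1 ∨ y = e ∨ y = φ e ∨ y = e * φ e := fun y hy =>
    mem_four (hM.om_le_four h) hsq he hf he1 hf1 (Ne.symm hee) hy
  have hff : φ (φ e) = e * φ e := by
    rcases four _ (hin φ hφ _ hf) with e' | e' | e' | e'
    · exact absurd (φ.map_eq_one_iff.1 e') hf1
    · exact absurd (h.odd_two hφ e') hee
    · exact absurd (φ.injective e') hee
    · exact e'
  have hcube : φ (φ (φ e)) = e := by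
    rw [hff, map_mul, hff, hM.om_abn.comm e he _ hf, ← mul_assoc, ← pow_two, hsq _ hf, one_mul]
  have four' : ∀ y ∈ Om M, y = 1 ∨ y = e ∨ y = φ e ∨ y = φ (φ e) := hff ▸ four
  have hA3 : φ * φ * φ ∈ A := A.mul_mem (A.mul_mem hφ hφ) hφ
  have cube : ∀ m ∈ M, φ (φ (φ m)) = m := fun m hm => hM.fix_of_om h hA3 (fun y hy => by
    show φ (φ (φ y)) = y
    rcases four' y hy with e' | e' | e' | e' <;> rw [e']
    · simp
    · exact hcube
    · rw [hcube]
    · rw [hcube]) hm
  have fixed : ∀ m ∈ M, φ m = m → m = 1 := by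
    intro m hm hfx
    obtain ⟨k, hk⟩ := h.two m
    induction k with
    | zero => simpa using hk
    | succ k ih =>
      refine ih ?_
      by_contra hy1
      set y := m ^ 2 ^ k with hy
      have hyO : y ∈ Om M := hM.mem_om.2 ⟨M.pow_mem hm _, by rw [hy, ← pow_mul, ← pow_succ]; exact hk⟩
      have hyf : φ y = y := by rw [hy, map_pow, hfx]
      rcases four' y hyO with e' | e' | e' | e' <;> rw [e'] at hyf
      · exact hy1 e'
      · exact hee hyf
      · exact hee (φ.injective hyf)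
      · exact hee (φ.injective (φ.injective hyf))
  refine ⟨φ, hφ, cube, fixed, fun x hx hx1 y hy => ?_, fun a ha => ?_, le_antisymm (hM.om_le_four h) ?_⟩
  · rcases four' x hx with e' | e' | e' | e' <;> subst x
    · exact absurd rfl hx1
    · exact four' y hy
    · rw [hcube]; rcases four' y hy with h' | h' | h' | h' <;> simp [h']
    · rw [hcube]; rcases four' y hy with h' | h' | h' | h' <;> simp [h']
  · have key : ∀ ψ ∈ A, ψ e = e → ∀ m ∈ M, ψ m = m := fun ψ hψ hψe m hm => by
      have hpf : ψ (φ e) = φ e := by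
        rcases four _ (hin ψ hψ _ hf) with e' | e' | e' | e'
        · exact absurd (ψ.map_eq_one_iff.1 e') hf1
        · exact absurd (ψ.injective (e'.trans hψe.symm)) hee
        · exact e'
        · refine h.odd_two hψ ?_
          rw [e', map_mul, hψe, e', ← mul_assoc, ← pow_two, hsq e he, one_mul]
      refine hM.fix_of_om h hψ (fun y hy => ?_) hm
      rcases four y hy with e' | e' | e' | e' <;> rw [e']
      · rw [map_one]
      · exact hψe
      · exact hpf
      · rw [map_mul, hψe, hpf]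
    have hcubeM : ∀ m ∈ M, φ (φ (φ m)) = m := cube
    rcases four' _ (hin a ha e he) with e' | e' | e' | e'
    · exact absurd (a.map_eq_one_iff.1 e') he1
    · exact Or.inl (key a ha e')
    · refine Or.inr (Or.inl fun m hm => ?_)
      have h1 := key (φ * φ * a) (A.mul_mem (A.mul_mem hφ hφ) ha)
        (by show φ (φ (a e)) = e; rw [e', hcube]) m hm
      change φ (φ (a m)) = m at h1
      have h2 := congrArg φ h1
      rwa [hcubeM _ (hM.inv a ha m hm)] at h2
    · refine Or.inr (Or.inr fun m hm => ?_)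
      have h1 := key (φ * a) (A.mul_mem hφ ha) (by show φ (a e) = e; rw [e', hcube]) m hm
      change φ (a m) = m at h1
      have h2 := congrArg (fun t => φ (φ t)) h1
      simpa [hcubeM _ (hM.inv a ha m hm)] using h2
  · have hle : ({1, e, φ e, e * φ e} : Finset X).card ≤ Nat.card (Om M) := by
      rw [← Nat.card_eq_finsetCard]
      refine Nat.card_le_card_of_injective (fun z => (⟨z.1, ?_⟩ : Om M)) fun u v e' =>
        Subtype.ext (id (congrArg Subtype.val e' :))
      have hz := z.2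
      simp only [Finset.mem_insert, Finset.mem_singleton] at hz
      rcases hz with e' | e' | e' | e' <;> rw [e'] <;>
        first | exact (Om M).one_mem | assumption | exact (Om M).mul_mem he hf
    have h3 : e * φ e ≠ 1 := fun e' => hee (mul_left_cancel (e'.trans (by rw [← hsq e he, pow_two])))
    have h4 : e * φ e ≠ e := fun e' => hf1 (mul_eq_left.1 e')
    have h5 : e * φ e ≠ φ e := fun e' => he1 (mul_eq_right.1 e')
    rwa [Finset.card_insert_of_notMem, Finset.card_insert_of_notMem, Finset.card_insert_of_notMem,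
      Finset.card_singleton] at hle
    · rw [Finset.mem_singleton]; exact Ne.symm h5
    · simp only [Finset.mem_insert, Finset.mem_singleton, not_or]
      exact ⟨Ne.symm hee, Ne.symm h4⟩
    · simp only [Finset.mem_insert, Finset.mem_singleton, not_or]
      exact ⟨he1.symm, hf1.symm, Ne.symm h3⟩

end CfsgLib.ScnThree
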