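import Cfsg.Agent.ScnThree.Class2
import Cfsg.Agent.FGSB.QuaternionEight

/-!
The possible special groups in the central case.
-/

set_option autoImplicit false
set_option linter.style.haveILetI false

namespace CfsgLib.ScnThree

open Subgroup Cfsg
open scoped IsMulCommutative

variable {X : Type*} [Group X] [Finite X] {A : Subgroup (MulAut X)}

namespace C2

variable (c : C2 A)
include c

theorem br_mem (x y : X) : br x y ∈ center X := c.com ▸ br_mem_commutator x y

theorem br_mul (x y w : X) : br (x * y) w = br x w * br y w := br_mul_left (c.br_mem y w)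

theorem br_pow_left (x w : X) (k : ℕ) : br (x ^ k) w = br x w ^ k := by
  induction k with
  | zero => rw [pow_zero, pow_zero, br_one_left]
  | succ k ih => rw [pow_succ, c.br_mul, ih, pow_succ]

theorem br_comm (x y : X) : br y x = br x y := by
  rw [br_swap x y, inv_eq_iff_mul_eq_one, ← pow_two, c.el _ (c.br_mem x y)]

theorem br_mul_right (x y w : X) : br x (y * w) = br x y * br x w := by
  rw [c.br_comm (y * w) x, c.br_mul, c.br_comm x y, c.br_comm x w]

theorem sq_mul (x y : X) : (x * y) ^ 2 = br y x * (x ^ 2 * y ^ 2) := by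
  have hc := mem_center_iff.1 (c.br_mem y x) x
  rw [pow_two, show x * y * (x * y) = x * (y * x * y⁻¹ * x⁻¹) * x * y * y by group]
  show x * br y x * x * y * y = _
  rw [hc]
  simp only [pow_two, mul_assoc]

theorem sq_center {z : X} (hz : z ∈ center X) (x : X) : (x * z) ^ 2 = x ^ 2 := by
  rw [c.sq_mul, br_center_left hz, c.el z hz, one_mul, mul_one]

theorem br_center {z : X} (hz : z ∈ center X) (x w : X) : br (x * z) w = br x w := by
  rw [c.br_mul, br_center_left hz, mul_one]

theorem comm_quot : IsMulCommutative (X ⧸ center X) :=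
  Normal.quotient_commutative_iff_commutator_le.2 c.com.le

theorem invol (v : X ⧸ center X) : v * v = 1 := by
  obtain ⟨x, rfl⟩ := QuotientGroup.mk'_surjective _ v
  rw [← map_mul, ← pow_two]
  exact (QuotientGroup.eq_one_iff _).2 (c.sq x)

theorem card_center_le : Nat.card (center X) ≤ 4 :=
  c.hyp.no_elem inferInstance (fun a _ _ hb => mem_center_iff.1 hb a) c.el

theorem card_center : Nat.card (center X) = 2 ∨ Nat.card (center X) = 4 := by
  haveI : Fact (Nat.Prime 2) := ⟨Nat.prime_two⟩
  obtain ⟨k, hk⟩ := (c.hyp.two.to_subgroup (center X)).exists_card_eq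
  have h4 := c.card_center_le
  have h1 : 1 ≤ k := by
    refine Nat.one_le_iff_ne_zero.2 fun h0 => ?_
    obtain ⟨x, y, hxy⟩ := c.nab
    have hb := c.br_mem x y
    rw [h0, pow_zero, Subgroup.card_eq_one] at hk
    rw [hk, mem_bot] at hb
    exact hxy (br_eq_one_iff.1 hb)
  have h2 : k ≤ 2 := by
    by_contra h3
    have : 2 ^ 3 ≤ 2 ^ k := Nat.pow_le_pow_right (by norm_num) (by omega)
    omega
  interval_cases k
  · exact Or.inl hk
  · exact Or.inr hk

theorem is_special : IsSpecial 2 X := by
  haveI : Fact (Nat.Prime 2) := ⟨Nat.prime_two⟩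
  refine ⟨c.hyp.two, le_antisymm (CfsgLib.PGroupBasic.frattini_le_of_elementary (p := 2) _ c.com.le c.sq) ?_, c.com⟩
  exact c.com ▸ (CfsgLib.PGroupBasic.commutator_pow_le_frattini c.hyp.two).1

/-- The abelian normal subgroup spanned by the centre and two commuting elements. -/
theorem plane {a b : X} (hab : br a b = 1) (ha : (a : X ⧸ center X) ≠ 1) (hb : (b : X ⧸ center X) ≠ 1)
    (hne : (a : X ⧸ center X) ≠ b) :
    ∃ Y : Subgroup X, Y.Normal ∧ center X ≤ Y ∧ a ∈ Y ∧ b ∈ Y ∧ (∀ u ∈ Y, ∀ v ∈ Y, u * v = v * u) ∧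
      4 * Nat.card (center X) ≤ Nat.card Y ∧
      (a ^ 2 = 1 → b ^ 2 = 1 → ∀ u ∈ Y, u ^ 2 = 1) := by
  set S : Set X := (center X : Set X) ∪ {a, b} with hS
  have hcY : center X ≤ closure S := fun z hz => subset_closure (Or.inl hz)
  have haY : a ∈ closure S := subset_closure (Or.inr (Or.inl rfl))
  have hbY : b ∈ closure S := subset_closure (Or.inr (Or.inr rfl))
  have hgc : ∀ u ∈ closure S, ∀ v ∈ closure S, u * v = v * u := by
    refine closure_comm ?_
    have h1 := br_eq_one_iff.1 hab
    rintro u (hu | rfl | rfl) v (hv | rfl | rfl) <;>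
      first
        | exact mem_center_iff.1 hv _
        | exact (mem_center_iff.1 hu _).symm
        | rfl
        | exact h1
        | exact h1.symm
  refine ⟨closure S, normal_of_commutator_le (c.com.le.trans hcY), hcY, haY, hbY, hgc, ?_,
    fun ha2 hb2 u hu => ?_⟩
  · set W := (closure S).map (QuotientGroup.mk' (center X)) with hW
    have haW : (a : X ⧸ center X) ∈ W := mem_map_of_mem _ haY
    have hbW : (b : X ⧸ center X) ∈ W := mem_map_of_mem _ hbY
    have hW4 : 4 ≤ Nat.card W := by
      classical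
      have hab1 : (a : X ⧸ center X) * b ≠ 1 := fun e => hne (by
        rw [← mul_one (a : X ⧸ center X), ← c.invol (b : X ⧸ center X), ← mul_assoc, e, one_mul])
      have h1 : ({1, (a : X ⧸ center X), (b : X ⧸ center X), (a : X ⧸ center X) * b} : Finset _).card = 4 := by
        rw [Finset.card_insert_of_notMem, Finset.card_insert_of_notMem, Finset.card_insert_of_notMem,
          Finset.card_singleton]
        · rw [Finset.mem_singleton]; exact fun e => ha (mul_eq_right.1 e.symm)
        · simp only [Finset.mem_insert, Finset.mem_singleton, not_or]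
          exact ⟨hne, fun e => hb (mul_eq_left.1 e.symm)⟩
        · simp only [Finset.mem_insert, Finset.mem_singleton, not_or]
          exact ⟨ha.symm, hb.symm, hab1.symm⟩
      rw [← h1, ← Nat.card_eq_finsetCard]
      refine Nat.card_le_card_of_injective (fun z => (⟨z.1, ?_⟩ : W)) fun u v e =>
        Subtype.ext (id (congrArg Subtype.val e :))
      have hz := z.2
      simp only [Finset.mem_insert, Finset.mem_singleton] at hz
      rcases hz with e | e | e | e <;> rw [e]
      · exact W.one_mem
      · exact haW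
      · exact hbW
      · exact W.mul_mem haW hbW
    have hidx : W.index = (closure S).index := index_map_eq _ (QuotientGroup.mk'_surjective _)
      (by rwa [QuotientGroup.ker_mk'])
    have e1 := W.card_mul_index
    have e2 := (closure S).card_mul_index
    have e3 := (center X).card_mul_index
    rw [← index_eq_card] at e1
    rw [hidx] at e1
    have hpos : 0 < (closure S).index := Nat.pos_of_ne_zero index_ne_zero_of_finite
    nlinarith
  · induction hu using closure_induction with
    | mem u hu =>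
      rcases hu with hu | rfl | rfl
      · exact c.el u hu
      · exact ha2
      · exact hb2
    | one => exact one_pow 2
    | mul u v hu hv hu2 hv2 => rw [Commute.mul_pow (hgc u hu v hv), hu2, hv2, one_mul]
    | inv u _ hu2 => rw [inv_pow, hu2, inv_one]

/-- No two independent commuting involutions modulo the centre. -/
theorem no_two {a b : X} (hab : br a b = 1) (ha : (a : X ⧸ center X) ≠ 1) (hb : (b : X ⧸ center X) ≠ 1)
    (hne : (a : X ⧸ center X) ≠ b) (ha2 : a ^ 2 = 1) (hb2 : b ^ 2 = 1) : False := by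
  obtain ⟨Y, hn, -, -, -, hc, hcard, hsq⟩ := c.plane hab ha hb hne
  have h1 := c.hyp.no_elem hn hc (hsq ha2 hb2)
  have h2 := Nat.card_pos (α := center X)
  rcases c.card_center with e | e <;> omega

theorem three_basis (h3 : 4 < Nat.card (X ⧸ center X)) :
    ∃ x y w : X, (x : X ⧸ center X) ≠ 1 ∧ (y : X ⧸ center X) ≠ 1 ∧ (x : X ⧸ center X) ≠ y ∧
      (w : X ⧸ center X) ≠ 1 ∧ (w : X ⧸ center X) ≠ x ∧ (w : X ⧸ center X) ≠ y ∧
      (w : X ⧸ center X) ≠ x * y := by
  classical
  haveI := Fintype.ofFinite (X ⧸ center X)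
  rw [Nat.card_eq_fintype_card] at h3
  have hpick : ∀ s : Finset (X ⧸ center X), s.card ≤ 4 → ∃ x : X, (x : X ⧸ center X) ∉ s := fun s hs => by
    obtain ⟨v, hv⟩ := Finset.exists_mem_notMem_of_card_lt_card (s := s) (t := Finset.univ)
      (by rw [Finset.card_univ]; omega)
    obtain ⟨x, rfl⟩ := QuotientGroup.mk'_surjective _ v
    exact ⟨x, hv.2⟩
  obtain ⟨x, hx⟩ := hpick {1} (by simp)
  obtain ⟨y, hy⟩ := hpick {1, (x : X ⧸ center X)} (le_trans Finset.card_le_two (by norm_num))
  obtain ⟨w, hw⟩ := hpick {1, (x : X ⧸ center X), (y : X ⧸ center X), (x : X ⧸ center X) * y} Finset.card_le_four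
  simp only [Finset.mem_insert, Finset.mem_singleton, not_or] at hx hy hw
  exact ⟨x, y, w, hx, hy.1, Ne.symm hy.2, hw.1, hw.2.1, hw.2.2.1, hw.2.2.2⟩

theorem ne_eight : Nat.card (X ⧸ center X) ≠ 8 := by
  intro h8
  haveI := c.comm_quot
  obtain ⟨x, y, w, hx, hy, hxy, hw, hwx, hwy, hwxy⟩ := c.three_basis (by omega)
  set V := X ⧸ center X
  have hmul : ∀ u v : X, ((u * v : X) : V) = (u : V) * v := fun _ _ => rfl
  have ne_mul : ∀ p q : V, p ≠ q → p * q ≠ 1 := fun p q hpq e => hpq (by
    rw [← mul_one p, ← c.invol q, ← mul_assoc, e, one_mul])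
  have cancel : ∀ p q : V, p * q * q = p := fun p q => by rw [mul_assoc, c.invol, mul_one]
  obtain ⟨a, b, hab, ha, hb, hne⟩ : ∃ a b : X, br a b = 1 ∧ (a : V) ≠ 1 ∧ (b : V) ≠ 1 ∧ (a : V) ≠ b := by
    by_cases h12 : br x y = 1
    · exact ⟨x, y, h12, hx, hy, hxy⟩
    by_cases h13 : br x w = 1
    · exact ⟨x, w, h13, hx, hw, Ne.symm hwx⟩
    by_cases h23 : br y w = 1
    · exact ⟨y, w, h23, hy, hw, Ne.symm hwy⟩
    by_cases e1 : br x y = br x w
    · refine ⟨x, y * w, ?_, hx, ?_, ?_⟩
      · rw [c.br_mul_right, e1, ← pow_two, c.el _ (c.br_mem _ _)]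
      · rw [hmul]; exact ne_mul _ _ (Ne.symm hwy)
      · rw [hmul]; exact fun e => hwxy (by rw [e, mul_comm (y : V), cancel])
    rcases mem_four c.card_center_le c.el (c.br_mem x y) (c.br_mem x w) h12 h13 e1 (c.br_mem y w)
      with e | e | e | e
    · exact absurd e h23
    · refine ⟨y, x * w, ?_, hy, ?_, ?_⟩
      · rw [c.br_mul_right, e, c.br_comm x y, ← pow_two, c.el _ (c.br_mem _ _)]
      · rw [hmul]; exact ne_mul _ _ (Ne.symm hwx)
      · rw [hmul]; exact fun e' => hwxy (by rw [e', ← mul_assoc, c.invol, one_mul])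
    · refine ⟨w, x * y, ?_, hw, ?_, ?_⟩
      · rw [c.br_mul_right, c.br_comm x w, c.br_comm y w, e, ← pow_two, c.el _ (c.br_mem _ _)]
      · rw [hmul]; exact ne_mul _ _ hxy
      · rw [hmul]; exact hwxy
    · refine ⟨x * y, y * w, ?_, ?_, ?_, ?_⟩
      · rw [c.br_mul, c.br_mul_right, c.br_mul_right, br_self, one_mul, e, ← pow_two,
          c.el _ ((center X).mul_mem (c.br_mem x y) (c.br_mem x w))]
      · rw [hmul]; exact ne_mul _ _ hxy
      · rw [hmul]; exact ne_mul _ _ (Ne.symm hwy)
      · rw [hmul, hmul]; exact fun e' => hwx (by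
          rw [mul_comm (y : V)] at e'
          exact (mul_right_cancel e').symm)
  obtain ⟨Y, hYn, hZY, -, -, hYc, hYcard, -⟩ := c.plane hab ha hb hne
  have hXcard : Nat.card X = 8 * Nat.card (center X) := by
    rw [← h8, ← index_eq_card, index_mul_card]
  have hpos := Nat.card_pos (α := center X)
  have hidx : Y.index ≤ 2 := by
    have e := Y.card_mul_index
    rw [hXcard] at e
    nlinarith
  have hYne : Y.index ≠ 1 := fun e => by
    obtain ⟨u, v, huv⟩ := c.nab
    rw [index_eq_one] at e
    exact huv (hYc u (e ▸ mem_top u) v (e ▸ mem_top v))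
  have hY2 : Y.index = 2 := by
    have := Nat.pos_of_ne_zero (index_ne_zero_of_finite (H := Y))
    omega
  have hinv : ∀ a ∈ A, ∀ u ∈ Y, a u ∈ Y := by
    intro a _ u hu
    by_contra hau
    set Y' := Y.map a.toMonoidHom with hY'
    have hidx' : Y'.index = 2 := by
      rw [hY', index_map_eq _ (by exact a.surjective) (by
        rw [(MonoidHom.ker_eq_bot_iff _).2 (by exact a.injective)]; exact bot_le), hY2]
    have htop : Y ⊔ Y' = ⊤ := by
      have hlt : Y < Y ⊔ Y' := lt_of_le_of_ne le_sup_left fun e =>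
        hau (e.symm ▸ mem_sup_right (mem_map_of_mem a.toMonoidHom hu))
      have h1 : (Y ⊔ Y').index ∣ 2 := hY2 ▸ index_dvd_of_le le_sup_left
      rcases (Nat.dvd_prime Nat.prime_two).1 h1 with e | e
      · exact index_eq_one.1 e
      · have := index_strictAnti hlt
        omega
    have hle : Y ⊓ Y' ≤ center X := by
      intro g hg
      have hc : Y ⊔ Y' ≤ centralizer {g} := by
        refine sup_le (fun y hy => mem_centralizer_singleton_iff.2 (hYc y hy g hg.1)) ?_
        rintro _ ⟨y, hy, rfl⟩
        obtain ⟨g', hg', hgeq⟩ := hg.2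
        rw [← hgeq]
        exact mem_centralizer_singleton_iff.2 (by rw [← map_mul, ← map_mul, hYc y hy g' hg'])
      rw [htop] at hc
      exact mem_center_iff.2 fun y => mem_centralizer_singleton_iff.1 (hc (mem_top y))
    have h3 : (center X).index ≤ (Y ⊓ Y').index :=
      Nat.le_of_dvd (Nat.pos_of_ne_zero index_ne_zero_of_finite) (index_dvd_of_le hle)
    have h4 := index_inf_le (H := Y) (K := Y')
    rw [hY2, hidx'] at h4
    rw [index_eq_card, h8] at h3
    omega
  have hYZ := c.max Y ⟨hYn, hinv, hYc⟩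
  have := card_le_of_le hYZ
  omega

/-- If the quotient by the centre has order at most four, there is a single nontrivial commutator. -/
theorem small (h4 : Nat.card (X ⧸ center X) ≤ 4) :
    Nat.card (center X) = 2 ∧ Nat.card (X ⧸ center X) = 4 := by
  classical
  haveI := c.comm_quot
  set V := X ⧸ center X
  obtain ⟨x, y, hxy⟩ := c.nab
  have hbr : br x y ≠ 1 := fun e => hxy (br_eq_one_iff.1 e)
  have key : ∀ u v : X, (u : V) = (v : V) → ∀ w, br u w = br v w := by
    intro u v e w
    rw [QuotientGroup.eq] at e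
    rw [← c.br_center e u w, mul_inv_cancel_left]
  have hx : (x : V) ≠ 1 := fun e => hbr (by rw [key x 1 e, br_one_left])
  have hy : (y : V) ≠ 1 := fun e => hbr (by rw [c.br_comm y x, key y 1 e, br_one_left])
  have hne : (x : V) ≠ y := fun e => hbr (by rw [key x y e, br_self])
  have hsq : ∀ v ∈ (⊤ : Subgroup V), v ^ 2 = 1 := fun v _ => by rw [pow_two]; exact c.invol v
  have four : ∀ u : X, (u : V) = ((1 : X) : V) ∨ (u : V) = x ∨ (u : V) = y ∨ (u : V) = ((x * y : X) : V) := fun u =>
    mem_four (E := (⊤ : Subgroup V)) (by rw [card_top]; exact h4) hsq (mem_top _) (mem_top _) hx hy hne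
      (mem_top (u : V))
  have hle : commutator X ≤ zpowers (br x y) := commutator_le_of _ fun u w => by
    have h1 : ∀ s t : X, (s = 1 ∨ s = x ∨ s = y ∨ s = x * y) → (t = 1 ∨ t = x ∨ t = y ∨ t = x * y) →
        br s t ∈ zpowers (br x y) := by
      have h11 : ∀ t, br (1 : X) t ∈ zpowers (br x y) := fun t => by rw [br_one_left]; exact one_mem _
      have hxy' := mem_zpowers (br x y)
      have hxx : br x x ∈ zpowers (br x y) := by rw [br_self]; exact one_mem _
      have hyy : br y y ∈ zpowers (br x y) := by rw [br_self]; exact one_mem _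
      have hyx : br y x ∈ zpowers (br x y) := by rw [c.br_comm x y]; exact hxy'
      have hbase : ∀ s, (s = x ∨ s = y) → ∀ t, (t = 1 ∨ t = x ∨ t = y ∨ t = x * y) →
          br s t ∈ zpowers (br x y) := by
        rintro s (hs | hs) t (ht | ht | ht | ht) <;> rw [hs, ht]
        · rw [c.br_comm 1, br_one_left]; exact one_mem _
        · exact hxx
        · exact hxy'
        · rw [c.br_mul_right]; exact mul_mem hxx hxy'
        · rw [c.br_comm 1, br_one_left]; exact one_mem _
        · exact hyx
        · exact hyy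
        · rw [c.br_mul_right]; exact mul_mem hyx hyy
      intro s t hs ht
      rcases hs with hs | hs | hs | hs <;> rw [hs]
      · exact h11 t
      · exact hbase x (Or.inl rfl) t ht
      · exact hbase y (Or.inr rfl) t ht
      · rw [c.br_mul]; exact mul_mem (hbase x (Or.inl rfl) t ht) (hbase y (Or.inr rfl) t ht)
    rcases four u with e | e | e | e <;> rcases four w with e' | e' | e' | e' <;>
      (rw [key _ _ e, c.br_comm w, key _ _ e']; apply h1 <;> tauto)
  have hcard2 : Nat.card (zpowers (br x y)) ≤ 2 := by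
    rw [Nat.card_zpowers]
    exact Nat.le_of_dvd (by norm_num) (orderOf_dvd_of_pow_eq_one (c.el _ (c.br_mem x y)))
  have hZ : Nat.card (center X) = 2 := by
    have := (card_le_of_le (c.com.ge.trans hle)).trans hcard2
    rcases c.card_center with e | e <;> omega
  refine ⟨hZ, ?_⟩
  by_contra hne4
  haveI : Fact (Nat.Prime 2) := ⟨Nat.prime_two⟩
  obtain ⟨k, hk⟩ := (c.hyp.two.to_quotient (center X)).exists_card_eq
  rw [hk] at h4 hne4
  have h1 : k ≤ 1 := by
    by_contra hk2
    obtain rfl | hk3 : k = 2 ∨ 3 ≤ k := by omega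
    · exact hne4 rfl
    · have : 2 ^ 3 ≤ 2 ^ k := Nat.pow_le_pow_right (by norm_num) hk3
      omega
  have h2 : Nat.card V ≤ 2 := hk ▸ (Nat.pow_le_pow_right (by norm_num) h1 : 2 ^ k ≤ 2 ^ 1)
  haveI := Fintype.ofFinite V
  have h3 : ({1, (x : V), (y : V)} : Finset V).card = 3 := by
    rw [Finset.card_insert_of_notMem, Finset.card_insert_of_notMem, Finset.card_singleton]
    · rw [Finset.mem_singleton]; exact hne
    · simp only [Finset.mem_insert, Finset.mem_singleton, not_or]; exact ⟨hx.symm, hy.symm⟩
  have := Finset.card_le_univ ({1, (x : V), (y : V)} : Finset V)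
  rw [Nat.card_eq_fintype_card] at h2
  omega

end C2

end CfsgLib.ScnThree
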