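import Mathlib

/-!
Sums of functions of bounded degree over elementary abelian two-groups.
-/

set_option autoImplicit false

namespace CfsgLib.ScnThree

open Subgroup

variable {V : Type*} [CommGroup V]

/-- Functions all of whose iterated differences of order `k + 1` vanish. -/
def Deg : ℕ → (V → ZMod 2) → Prop
  | 0, f => ∀ a b, f a = f b
  | k + 1, f => ∀ a, Deg k fun x => f (x * a) + f x

theorem Deg.zero_fun : ∀ k, Deg k fun _ : V => (0 : ZMod 2)
  | 0 => fun _ _ => rfl
  | k + 1 => fun _ => by
    simp only [add_zero]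
    exact Deg.zero_fun k

theorem Deg.succ : ∀ {k} {f : V → ZMod 2}, Deg k f → Deg (k + 1) f
  | 0, f, h => fun a x y => by
    show f (x * a) + f x = f (y * a) + f y
    rw [h (x * a) (y * a), h x y]
  | k + 1, f, h => fun a => Deg.succ (h a)

theorem Deg.add : ∀ {k} {f g : V → ZMod 2}, Deg k f → Deg k g → Deg k fun x => f x + g x
  | 0, f, g, hf, hg => fun a b => by
    show f a + g a = f b + g b
    rw [hf a b, hg a b]
  | k + 1, f, g, hf, hg => fun a => by
    simpa only [add_add_add_comm] using Deg.add (hf a) (hg a)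

theorem Deg.shift : ∀ {k} {f : V → ZMod 2}, Deg k f → ∀ b, Deg k fun x => f (x * b)
  | 0, f, h, b => fun x y => h _ _
  | k + 1, f, h, b => fun a => by
    have := Deg.shift (h a) b
    simpa only [mul_right_comm _ a b] using this

theorem Deg.mul_aux : ∀ n i j, i + j = n → ∀ {f g : V → ZMod 2}, Deg i f → Deg j g →
    Deg n fun x => f x * g x := by
  intro n
  induction n with
  | zero =>
    intro i j hij f g hf hg a b
    obtain ⟨rfl, rfl⟩ : i = 0 ∧ j = 0 := by omega
    show f a * g a = f b * g b
    rw [hf a b, hg a b]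
  | succ n ih =>
    intro i j hij f g hf hg a
    have e : (fun x => f (x * a) * g (x * a) + f x * g x) =
        fun x => (f (x * a) + f x) * g (x * a) + f x * (g (x * a) + g x) := by
      funext x
      generalize f (x * a) = A, f x = B, g (x * a) = C, g x = D
      revert A B C D; decide
    show Deg n fun x => f (x * a) * g (x * a) + f x * g x
    rw [e]
    refine Deg.add ?_ ?_
    · cases i with
      | zero =>
        rw [show (fun x => (f (x * a) + f x) * g (x * a)) = fun _ => (0 : ZMod 2) from funext fun x => by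
          rw [hf (x * a) x, CharTwo.add_self_eq_zero, zero_mul]]
        exact Deg.zero_fun n
      | succ i => exact ih i j (by omega) (hf a) (Deg.shift hg a)
    · cases j with
      | zero =>
        rw [show (fun x => f x * (g (x * a) + g x)) = fun _ => (0 : ZMod 2) from funext fun x => by
          rw [hg (x * a) x, CharTwo.add_self_eq_zero, mul_zero]]
        exact Deg.zero_fun n
      | succ j => exact ih i j (by omega) hf (hg a)

theorem Deg.mul {i j : ℕ} {f g : V → ZMod 2} (hf : Deg i f) (hg : Deg j g) :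
    Deg (i + j) fun x => f x * g x := Deg.mul_aux _ i j rfl hf hg

variable [Finite V]

/-- An index two subgroup avoiding a given element. -/
theorem exists_avoiding (hV : ∀ v : V, v * v = 1) (W : Subgroup V) {a : V} (ha : a ∈ W) (ha1 : a ≠ 1) :
    ∃ W' : Subgroup V, W' ≤ W ∧ a ∉ W' ∧ ∀ c ∈ W, c ∈ W' ∨ c * a ∈ W' := by
  obtain ⟨W', hmax⟩ := (Set.toFinite {U : Subgroup V | U ≤ W ∧ a ∉ U}).exists_maximal
    ⟨⊥, bot_le, fun h => ha1 (mem_bot.1 h)⟩
  obtain ⟨hle, haW⟩ := hmax.prop
  refine ⟨W', hle, haW, fun c hc => or_iff_not_imp_left.2 fun hcW => ?_⟩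
  have hmem : a ∈ W' ⊔ zpowers c := by
    by_contra h
    exact hcW (hmax.2 ⟨sup_le hle (zpowers_le.2 hc), h⟩ le_sup_left (mem_sup_right (mem_zpowers c)))
  obtain ⟨w, hw, x, hx, hwx⟩ := mem_sup.1 hmem
  obtain ⟨k, rfl⟩ := mem_zpowers_iff.1 hx
  rcases Int.even_or_odd k with ⟨l, rfl⟩ | ⟨l, rfl⟩
  · exfalso
    rw [zpow_add, ← mul_zpow, hV, one_zpow, mul_one] at hwx
    exact haW (hwx ▸ hw)
  · rw [zpow_add, zpow_mul, zpow_two, hV, one_zpow, one_mul, zpow_one] at hwx
    rw [← hwx, mul_left_comm, hV, mul_one]
    exact hw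

open scoped Classical in
/-- The sum of a function of degree `k` over a subgroup of order more than `2 ^ k` vanishes. -/
theorem Deg.sum [Fintype V] (hV : ∀ v : V, v * v = 1) : ∀ {k} {f : V → ZMod 2}, Deg k f →
    ∀ W : Subgroup V, 2 ^ k < Nat.card W → ∑ x ∈ Finset.univ.filter (· ∈ W), f x = 0 := by
  intro k
  induction k with
  | zero =>
    intro f hf W hW
    haveI : Nontrivial W := Finite.one_lt_card_iff_nontrivial.1 (by simpa using hW)
    obtain ⟨⟨a, ha⟩, ha1⟩ := exists_ne (1 : W)
    refine Finset.sum_involution (fun x _ => x * a) (fun x _ => ?_) (fun x _ _ => ?_) (fun x hx => ?_)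
      (fun x _ => ?_)
    · rw [hf (x * a) x, CharTwo.add_self_eq_zero]
    · exact fun e => ha1 (Subtype.ext (mul_eq_left.1 e))
    · simp only [Finset.mem_filter, Finset.mem_univ, true_and] at hx ⊢
      exact W.mul_mem hx ha
    · rw [mul_assoc, hV, mul_one]
  | succ k ih =>
    intro f hf W hW
    haveI : Nontrivial W := Finite.one_lt_card_iff_nontrivial.1 (lt_of_le_of_lt Nat.one_le_two_pow hW)
    obtain ⟨⟨a, ha⟩, ha1⟩ := exists_ne (1 : W)
    obtain ⟨W', hle, haW, hcov⟩ := exists_avoiding hV W ha fun e => ha1 (Subtype.ext e)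
    set S := Finset.univ.filter (· ∈ W') with hS
    have hunion : Finset.univ.filter (· ∈ W) = S ∪ S.image (· * a) := by
      ext x
      simp only [hS, Finset.mem_union, Finset.mem_filter, Finset.mem_univ, true_and, Finset.mem_image]
      refine ⟨fun hx => (hcov x hx).imp id fun h => ⟨x * a, h, by rw [mul_assoc, hV, mul_one]⟩, ?_⟩
      rintro (hx | ⟨y, hy, rfl⟩)
      · exact hle hx
      · exact W.mul_mem (hle hy) ha
    have hdisj : Disjoint S (S.image (· * a)) := by
      rw [Finset.disjoint_left]
      intro x hx hx'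
      simp only [hS, Finset.mem_filter, Finset.mem_univ, true_and, Finset.mem_image] at hx hx'
      obtain ⟨y, hy, rfl⟩ := hx'
      exact haW ((mul_mem_cancel_left hy).1 hx)
    have hcard : Nat.card W = 2 * Nat.card W' := by
      rw [Nat.card_eq_fintype_card, Nat.card_eq_fintype_card, Fintype.card_subtype, Fintype.card_subtype,
        hunion, Finset.card_union_of_disjoint hdisj, Finset.card_image_of_injective _ (mul_left_injective a),
        two_mul]
    rw [hunion, Finset.sum_union hdisj, Finset.sum_image (fun x _ y _ e => mul_left_injective a e),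
      ← Finset.sum_add_distrib]
    have h2 : 2 ^ k < Nat.card W' := by rw [pow_succ'] at hW; omega
    have := ih (hf a) W' h2
    simpa only [add_comm] using this

/-- An indicator-like function of degree `k`, equal to one at the identity, has another nonzero value. -/
theorem Deg.exists_ne_one (hV : ∀ v : V, v * v = 1) {k : ℕ} {f : V → ZMod 2} (hf : Deg k f)
    (h1 : f 1 = 1) (W : Subgroup V) (hW : 2 ^ k < Nat.card W) : ∃ v ∈ W, v ≠ 1 ∧ f v ≠ 0 := by
  classical
  haveI := Fintype.ofFinite V
  by_contra hno
  push Not at hno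
  have hs := Deg.sum hV hf W hW
  rw [Finset.sum_eq_single (1 : V) (fun b hb hb1 => hno b (Finset.mem_filter.1 hb).2 hb1)
    (fun h => absurd (Finset.mem_filter.2 ⟨Finset.mem_univ _, W.one_mem⟩) h), h1] at hs
  exact one_ne_zero hs

end CfsgLib.ScnThree
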