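import Cfsg.Agent.ScnThree.Common
import Cfsg.Agent.ScnThree.Quad

/-!
The case in which every invariant normal abelian subgroup is central: the group is special.
-/

set_option autoImplicit false
set_option linter.style.haveILetI false

namespace CfsgLib.ScnThree

open Subgroup Cfsg

variable {X : Type*} [Group X]

/-- The commutator of two elements. -/
def br (x y : X) : X := x * y * x⁻¹ * y⁻¹

theorem br_mul_left {x y w : X} (h : br y w ∈ center X) : br (x * y) w = br x w * br y w := by
  have hc := mem_center_iff.1 h x
  calc br (x * y) w = x * br y w * (w * x⁻¹ * w⁻¹) := by rw [br, br]; group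
    _ = br y w * br x w := by rw [hc, br, br]; group
    _ = _ := (mem_center_iff.1 h _).symm

theorem br_swap (x y : X) : br y x = (br x y)⁻¹ := by rw [br, br]; group

theorem br_eq_one_iff {x y : X} : br x y = 1 ↔ x * y = y * x := by
  rw [br, mul_inv_eq_one, mul_inv_eq_iff_eq_mul]

theorem br_one_left (y : X) : br 1 y = 1 := br_eq_one_iff.2 (by simp)

theorem br_center_left {z : X} (hz : z ∈ center X) (y : X) : br z y = 1 :=
  br_eq_one_iff.2 (mem_center_iff.1 hz y).symm

theorem br_self (x : X) : br x x = 1 := br_eq_one_iff.2 rfl

theorem br_mem_commutator (x y : X) : br x y ∈ commutator X := by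
  rw [br, ← commutatorElement_def]
  exact commutator_mem_commutator (mem_top _) (mem_top _)

theorem commutator_le_of (H : Subgroup X) (h : ∀ x y, br x y ∈ H) : commutator X ≤ H := by
  rw [_root_.commutator_def, Subgroup.commutator_le]
  intro x _ y _
  exact h x y

theorem closure_comm {S : Set X} (h : ∀ a ∈ S, ∀ b ∈ S, a * b = b * a) :
    ∀ a ∈ closure S, ∀ b ∈ closure S, a * b = b * a := by
  have h1 : closure S ≤ centralizer S := (closure_le _).2 fun a ha =>
    mem_centralizer_iff.2 fun b hb => h b hb a ha
  have h2 : closure S ≤ centralizer (closure S : Set X) := (closure_le _).2 fun a ha =>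
    mem_centralizer_iff.2 fun b hb => (mem_centralizer_iff.1 (h1 hb) a ha).symm
  exact fun a ha b hb => (mem_centralizer_iff.1 (h2 ha) b hb).symm

theorem normal_of_commutator_le {H : Subgroup X} (h : commutator X ≤ H) : H.Normal := ⟨fun n hn g => by
  have := H.mul_mem (h (br_mem_commutator g n)) hn
  rwa [br, inv_mul_cancel_right] at this⟩

variable [Finite X] {A : Subgroup (MulAut X)}

theorem center_abn : AbN A (center X) where
  nrm := inferInstance
  inv := fun a _ z hz => mem_center_iff.2 fun g => by
    obtain ⟨g, rfl⟩ := a.surjective g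
    rw [← map_mul, mem_center_iff.1 hz, map_mul]
  comm := fun a _ _ hb => mem_center_iff.1 hb a

/-- Commutators, squares and the centre in the central case. -/
structure C2 (A : Subgroup (MulAut X)) : Prop where
  hyp : Hyp A
  com : commutator X = center X
  el : ∀ z ∈ center X, z ^ 2 = 1
  sq : ∀ x : X, x ^ 2 ∈ center X
  max : ∀ N, AbN A N → N ≤ center X
  nab : ∃ x y : X, x * y ≠ y * x

theorem class_two (h : Hyp A) (hmax : ∀ N, AbN A N → N ≤ center X) : commutator X ≤ center X := by
  haveI := h.two.isNilpotent
  set N := commutator X ⊓ center X with hN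
  set W := commutator X ⊓ centMod (center X) with hW
  have hker : ∀ x ∈ centMod (center X), ∀ g ∈ commutator X, x * g = g * x := by
    intro x hx g hg
    let f : X →* center X :=
      { toFun := fun y => ⟨br x y, mem_centMod.1 hx y⟩
        map_one' := Subtype.ext (br_eq_one_iff.2 (by simp))
        map_mul' := fun a b => Subtype.ext (by
          show br x (a * b) = br x a * br x b
          have hb : br x b ∈ center X := mem_centMod.1 hx b
          have hc := mem_center_iff.1 hb
          calc br x (a * b) = br x a * (a * br x b * a⁻¹) := by simp only [br]; group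
            _ = br x a * br x b := by rw [hc a, mul_inv_cancel_right]) }
    have hk : commutator X ≤ f.ker := commutator_le_of _ fun a b => by
      rw [MonoidHom.mem_ker, br, map_mul, map_mul, map_mul, map_inv, map_inv, mul_inv_eq_one,
        mul_inv_eq_iff_eq_mul]
      exact Subtype.ext (mem_center_iff.1 (f b).2 _)
    exact br_eq_one_iff.1 (congrArg Subtype.val (MonoidHom.mem_ker.1 (hk hg) : f g = 1))
  have hWab : AbN A W :=
    { nrm := by
        haveI : (centMod (center X)).Normal :=
          (inferInstance : (center (X ⧸ center X)).Normal).comap (QuotientGroup.mk' _)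
        rw [hW]; infer_instance
      inv := fun a ha x hx => by
        refine ⟨?_, mem_centMod.2 fun g => ?_⟩
        · have hm : (commutator X).map a.toMonoidHom = commutator X := by
            rw [_root_.commutator_def, map_commutator, map_top_of_surjective _ a.surjective]
          exact hm ▸ mem_map_of_mem a.toMonoidHom hx.1
        · obtain ⟨g, rfl⟩ := a.surjective g
          rw [← map_inv, ← map_inv, ← map_mul, ← map_mul, ← map_mul]
          exact center_abn.inv a ha _ (mem_centMod.1 hx.2 g)
      comm := fun a ha b hb => hker a ha.2 b hb.1 }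
  by_contra hle
  obtain ⟨x, hxC, hxN, hx⟩ := CfsgLib.PGroupBasic.exists_central_mod N (commutator X)
    (lt_of_le_of_ne inf_le_left fun e => hle (e ▸ inf_le_right))
  exact hxN ⟨hxC, hmax W hWab ⟨hxC, mem_centMod.2 fun g => (hx g).2⟩⟩

theorem c2_of (h : Hyp A) (hna : ∃ x y : X, x * y ≠ y * x) (hmax : ∀ N, AbN A N → N ≤ center X) :
    C2 A := by
  classical
  have hcl := class_two h hmax
  have hbr : ∀ x y : X, br x y ∈ center X := fun x y => hcl (br_mem_commutator x y)
  have hpow : ∀ (x y : X) (k : ℕ), br (x ^ k) y = br x y ^ k := by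
    intro x y k
    induction k with
    | zero => rw [pow_zero, pow_zero, br_one_left]
    | succ k ih => rw [pow_succ, br_mul_left (hbr _ _), ih, pow_succ]
  have hpow2 : ∀ (x y : X) (k : ℕ), br x (y ^ k) = br x y ^ k := fun x y k => by
    rw [br_swap (y ^ k) x, hpow, br_swap x y, inv_pow, inv_inv]
  have hex : ∃ k, ∀ x : X, x ^ 2 ^ k ∈ center X := by
    obtain ⟨k, hk⟩ := h.two.exists_card_eq
    exact ⟨k, fun x => by rw [← hk, pow_card_eq_one']; exact one_mem _⟩
  have hsq : ∀ x : X, x ^ 2 ∈ center X := by
    have hk := Nat.find_spec hex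
    have hle : Nat.find hex ≤ 1 := by
      by_contra h2
      obtain ⟨j, hj⟩ : ∃ j, Nat.find hex = j + 1 := ⟨Nat.find hex - 1, by omega⟩
      set S : Set X := (center X : Set X) ∪ Set.range fun x : X => x ^ 2 ^ j with hS
      have hcY : center X ≤ closure S := fun z hz => subset_closure (Or.inl hz)
      have hY : AbN A (closure S) :=
        { nrm := normal_of_commutator_le (hcl.trans hcY)
          inv := fun a ha x hx => by
            have : (closure S).map a.toMonoidHom ≤ closure S := by
              rw [MonoidHom.map_closure, closure_le]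
              rintro _ ⟨y, hy | ⟨y, rfl⟩, rfl⟩
              · exact hcY (center_abn.inv a ha y hy)
              · exact subset_closure (Or.inr ⟨a y, (map_pow a y _).symm⟩)
            exact this (mem_map_of_mem a.toMonoidHom hx)
          comm := closure_comm (by
            rintro a (ha | ⟨x, rfl⟩) b (hb | ⟨y, rfl⟩)
            · exact mem_center_iff.1 hb a
            · exact (mem_center_iff.1 ha _).symm
            · exact mem_center_iff.1 hb _
            · refine br_eq_one_iff.1 ?_
              rw [hpow, hpow2, ← pow_mul, ← pow_add]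
              obtain ⟨i, hi⟩ := Nat.exists_eq_add_of_le (show j + 1 ≤ j + j by omega)
              rw [hi, pow_add, pow_mul, ← hj, ← hpow, br_center_left (hk x), one_pow]) }
      exact Nat.find_min hex (show j < Nat.find hex by omega)
        fun x => hmax _ hY (subset_closure (Or.inr ⟨x, rfl⟩))
    intro x
    rcases Nat.le_one_iff_eq_zero_or_eq_one.1 hle with e | e
    · rw [e] at hk
      exact (center X).pow_mem (by simpa using hk x) 2
    · rw [e] at hk
      simpa using hk x
  have hO : ∀ x y : X, br x y ∈ Om (center X) := fun x y => (center_abn (A := A)).mem_om.2 ⟨hbr x y, by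
    rw [← hpow]; exact br_center_left (hsq x) y⟩
  have hCinv : ∀ a ∈ A, ∀ x ∈ commutator X, a x ∈ commutator X := fun a _ x hx => by
    have hm : (commutator X).map a.toMonoidHom = commutator X := by
      rw [_root_.commutator_def, map_commutator, map_top_of_surjective _ a.surjective]
    exact hm ▸ mem_map_of_mem a.toMonoidHom hx
  have hCO : commutator X ≤ Om (center X) := commutator_le_of _ hO
  have hOel : ∀ z ∈ Om (center X), z ^ 2 = 1 := fun z hz => ((center_abn (A := A)).mem_om.1 hz).2
  suffices center X ≤ commutator X from
    ⟨h, le_antisymm hcl this, fun z hz => hOel z (hCO (this hz)), hsq, hmax, hna⟩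
  by_cases hmv : ∀ a ∈ A, ∀ z ∈ center X, a z = z
  · exact fun z hz => h.fixed_mem (commutator X) hCinv le_rfl fun a ha => hmv a ha z hz
  push Not at hmv
  haveI := (center_abn (A := A)).isComm
  obtain ⟨φ, R⟩ := (center_abn (A := A)).exists_rot h hmv
  obtain ⟨n, hn⟩ := R.exists_expo center_abn h
  have hn0 : n = 0 := by
    by_contra hn1
    have hU := R.comm_of_sq center_abn h hn (Nat.one_le_iff_ne_zero.2 hn1) ⊤ (fun _ _ => mem_top _)
      (fun u _ m hm => mem_center_iff.1 hm u) (fun u _ => hsq u) (fun u _ v _ => hO u v)
      (fun u _ q hq hq2 => by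
        have hv2 : (u * q⁻¹) ^ 2 = 1 := by
          rw [Commute.mul_pow (mem_center_iff.1 ((center X).inv_mem hq) u), inv_pow, hq2, mul_inv_cancel]
        have hv := h.mem_of_four (center_abn.om_central h) hOel R.card_om hv2 fun y => hO _ y
        have := (center X).mul_mem ((center_abn (A := A)).mem_om.1 hv).1 hq
        rwa [inv_mul_cancel_right] at this)
    obtain ⟨x, y, hxy⟩ := hna
    exact hxy (hU x (mem_top _) y (mem_top _))
  subst hn0
  have hall : ∀ z ∈ center X, z ∈ Om (center X) := fun z hz => (center_abn (A := A)).mem_om.2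
    ⟨hz, by simpa using congrArg Subtype.val (hn.1 ⟨z, hz⟩)⟩
  obtain ⟨x, y, hxy⟩ := hna
  have he1 : br x y ≠ 1 := fun e => hxy (br_eq_one_iff.1 e)
  intro z hz
  rcases R.om4 _ (hO x y) he1 z (hall z hz) with e | e | e | e <;> rw [e]
  · exact one_mem _
  · exact br_mem_commutator x y
  · exact hCinv φ R.mem _ (br_mem_commutator x y)
  · exact hCinv φ R.mem _ (hCinv φ R.mem _ (br_mem_commutator x y))

end CfsgLib.ScnThree
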