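import Cfsg.Agent.ScnThree.Act
import Cfsg.Agent.Solvable.PGroupBasic

/-!
Small tools: elements central modulo a normal subgroup, and counting involutions.
-/

set_option autoImplicit false
set_option linter.style.haveILetI false

namespace CfsgLib.ScnThree

open Subgroup Cfsg

variable {X : Type*} [Group X]

/-- The elements central modulo `M`. -/
def centMod (M : Subgroup X) [M.Normal] : Subgroup X := (center (X ⧸ M)).comap (QuotientGroup.mk' M)

theorem mem_centMod {M : Subgroup X} [M.Normal] {x : X} :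
    x ∈ centMod M ↔ ∀ g, x * g * x⁻¹ * g⁻¹ ∈ M := by
  rw [centMod, mem_comap, mem_center_iff]
  constructor
  · intro hx g
    rw [← QuotientGroup.eq_one_iff]
    have := hx (g : X ⧸ M)
    simp only [QuotientGroup.mk'_apply] at this
    simp only [QuotientGroup.mk_mul, QuotientGroup.mk_inv, ← this]
    group
  · intro hx q
    obtain ⟨g, rfl⟩ := QuotientGroup.mk'_surjective M q
    have := (QuotientGroup.eq_one_iff _).2 (hx g)
    simp only [QuotientGroup.mk_mul, QuotientGroup.mk_inv] at this
    rw [mul_inv_eq_iff_eq_mul, one_mul, mul_inv_eq_iff_eq_mul] at this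
    exact this.symm

variable [Finite X]

/-- From an element of `C` outside `M` that is central modulo `M` one gets one with square in `M`. -/
theorem exists_sq_mem (hX : IsPGroup 2 X) (M C : Subgroup X) [M.Normal] [C.Normal] (hlt : M < C) :
    ∃ x ∈ C, x ∉ M ∧ x ^ 2 ∈ M ∧ x ∈ centMod M := by
  haveI : Fact (Nat.Prime 2) := ⟨Nat.prime_two⟩
  haveI := hX.isNilpotent
  obtain ⟨x, hxC, hxM, hx⟩ := CfsgLib.PGroupBasic.exists_central_mod M C hlt
  obtain ⟨k, hk⟩ := hX x
  have hkM : x ^ 2 ^ k ∈ M := hk ▸ M.one_mem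
  clear hk
  induction k generalizing x with
  | zero => exact absurd (by simpa using hkM) hxM
  | succ k ih =>
    by_cases h2 : x ^ 2 ∈ M
    · exact ⟨x, hxC, hxM, h2, mem_centMod.2 hx⟩
    · exact ih (x ^ 2) (C.pow_mem hxC 2) h2 (mem_centMod.1 (pow_mem (mem_centMod.2 hx) 2))
        (by rw [← pow_mul, ← pow_succ']; exact hkM)

theorem involution_count (E : Subgroup X) (hE : ∀ x : X, x ^ 2 = 1 ↔ x ∈ E) :
    Nat.card {x : X // orderOf x = 2} = Nat.card E - 1 := by
  classical
  haveI := Fintype.ofFinite X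
  have key : (Finset.univ.filter fun x : X => orderOf x = 2) = (Finset.univ.filter fun x : X => x ∈ E).erase 1 := by
    ext x
    haveI : Fact (Nat.Prime 2) := ⟨Nat.prime_two⟩
    simp only [Finset.mem_filter, Finset.mem_univ, true_and, Finset.mem_erase, ne_eq, ← hE x]
    rw [orderOf_eq_prime_iff]
    exact and_comm
  rw [Nat.card_eq_fintype_card, Fintype.card_subtype, key,
    Finset.card_erase_of_mem (by simp [E.one_mem]), ← Fintype.card_subtype, Nat.card_eq_fintype_card]

/-- The conclusion for a special group of order 64. -/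
def Special64 (X : Type*) [Group X] : Prop :=
  Cfsg.IsSpecial 2 X ∧ Nat.card X = 64 ∧ Nat.card {x : X // orderOf x = 2} = 3 ∧
    ∀ x : X, orderOf x = 2 → x ∈ Subgroup.center X

theorem special64_of (hX : IsPGroup 2 X) (E : Subgroup X) (hcen : center X = E)
    (hcom : commutator X = E) (hsq : ∀ x : X, x ^ 2 ∈ E) (hinv : ∀ x : X, x ^ 2 = 1 ↔ x ∈ E)
    (hcard : Nat.card X = 64) (hE4 : Nat.card E = 4) : Special64 X := by
  haveI : Fact (Nat.Prime 2) := ⟨Nat.prime_two⟩
  haveI : E.Normal := hcom ▸ inferInstance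
  refine ⟨⟨hX, ?_, hcom.trans hcen.symm⟩, hcard, by rw [involution_count E hinv, hE4], fun x hx => ?_⟩
  · rw [hcen]
    refine le_antisymm (CfsgLib.PGroupBasic.frattini_le_of_elementary (p := 2) E hcom.le hsq) ?_
    exact hcom ▸ (CfsgLib.PGroupBasic.commutator_pow_le_frattini hX).1
  · rw [hcen, ← hinv]
    exact hx ▸ pow_orderOf_eq_one x

end CfsgLib.ScnThree
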